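import Groth.Agent.L04.RGamma.CompleteModule
import Mathlib.RingTheory.AdicCompletion.Basic
import Mathlib.RingTheory.Finiteness.Ideal
import Mathlib.LinearAlgebra.Isomorphisms
import Mathlib.Logic.Function.Basic

/-!
Consequences of derived completeness for a module: separatedness up to nilpotents, precompleteness,
Nakayama.
-/

set_option autoImplicit false
universe u v

noncomputable section

namespace Groth.L04.RGamma

variable {A : Type u} [CommRing A] {M : Type v} [AddCommGroup M] [Module A M]

theorem TzMod.seq_expand {f : A} {x y : ℕ → M} (hx : ∀ i, x i = y i + f • x (i + 1)) (N : ℕ) :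
    x 0 = (∑ i ∈ Finset.range N, f ^ i • y i) + f ^ N • x N := by
  induction N with
  | zero => simp
  | succ N ih => rw [ih, Finset.sum_range_succ, hx N, smul_add, smul_smul, ← pow_succ, add_assoc]

theorem tzMod_of_isAdicComplete (I : Ideal A) [IsAdicComplete I M] {f : A} (hf : f ∈ I) : TzMod f M := by
  have hpow : ∀ (n : ℕ) (x : M), f ^ n • x ∈ (I ^ n • ⊤ : Submodule A M) := fun n x =>
    Submodule.smul_mem_smul (Ideal.pow_mem_pow hf n) Submodule.mem_top
  refine tzMod_iff.2 fun y => ?_
  let S : ℕ → ℕ → M := fun n i => ∑ j ∈ Finset.range n, f ^ j • y (i + j)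
  have hS : ∀ n i, S (n + 1) i = y i + f • S n (i + 1) := fun n i => by
    simp only [S, Finset.sum_range_succ', Finset.smul_sum, smul_smul, ← pow_succ', pow_zero, one_smul, add_zero]
    rw [add_comm]
    exact congrArg (y i + ·) (Finset.sum_congr rfl fun j _ => by rw [add_right_comm i 1 j, add_assoc])
  have hcau : ∀ i, ∀ {m n : ℕ}, m ≤ n → S m i ≡ S n i [SMOD (I ^ m • ⊤ : Submodule A M)] := fun i m n hmn => by
    obtain ⟨k, rfl⟩ := Nat.exists_eq_add_of_le hmn
    rw [SModEq.sub_mem]
    simp only [S, Finset.sum_range_add, sub_add_cancel_left, Submodule.neg_mem_iff]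
    refine Submodule.sum_mem _ fun j _ => ?_
    rw [pow_add, mul_smul]
    exact hpow m _
  choose x hx using fun i => IsPrecomplete.prec ‹IsAdicComplete I M›.toIsPrecomplete (hcau i)
  refine ⟨x, fun i => sub_eq_iff_eq_add.2 ?_, fun z hz => ?_⟩
  · refine (IsHausdorff.eq_iff_smodEq (I := I)).2 fun n => ?_
    have h1 := hx i (n + 1)
    have h2 : f • S n (i + 1) ≡ f • x (i + 1) [SMOD (I ^ n • ⊤ : Submodule A M)] := (hx (i + 1) n).smul f
    rw [hS] at h1
    exact ((h1.mono (Submodule.smul_mono_left (Ideal.pow_le_pow_right n.le_succ))).symm).trans (SModEq.rfl.add h2)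
  · refine funext fun i => (IsHausdorff.eq_iff_smodEq (I := I)).2 fun n => ?_
    have hz' : ∀ n i, z i = S n i + f ^ n • z (i + n) := fun n i => by
      rw [← add_zero i, TzMod.seq_expand (x := fun j => z (i + j)) (y := fun j => y (i + j))
        (fun j => sub_eq_iff_eq_add.1 (hz (i + j))) n]
      simp [S]
    refine SModEq.trans ?_ (hx i n)
    rw [hz' n i, SModEq.sub_mem, add_sub_cancel_left]
    exact hpow n _

/-- Nakayama for complete modules. -/
theorem subsingleton_of_span_smul_top_eq_top (s : Finset A) :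
    ∀ (N : Type v) [AddCommGroup N] [Module A N], (∀ f ∈ s, TzMod f N) →
      Ideal.span (s : Set A) • (⊤ : Submodule A N) = ⊤ → Subsingleton N := by
  classical
  induction s using Finset.induction_on with
  | empty =>
    intro N _ _ _ h
    rw [Finset.coe_empty, Ideal.span_empty, Submodule.bot_smul] at h
    exact (Submodule.subsingleton_iff A).1 (subsingleton_of_bot_eq_top h)
  | @insert f s hfs ih =>
    intro N _ _ hs h
    let u : N →ₗ[A] N := f • LinearMap.id
    let Q := N ⧸ LinearMap.range u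
    have hQ : ∀ g ∈ s, TzMod g Q := fun g hg =>
      TzMod.coker u (hs g (Finset.mem_insert_of_mem hg)) (hs g (Finset.mem_insert_of_mem hg))
    have htop : Ideal.span (s : Set A) • (⊤ : Submodule A Q) = ⊤ := by
      have h1 := congrArg (Submodule.map (LinearMap.range u).mkQ) h
      rw [Submodule.map_smul'', Submodule.map_top, Submodule.range_mkQ, Finset.coe_insert,
        Ideal.span_insert, Submodule.sup_smul, sup_eq_right.2] at h1
      · exact h1
      · refine Submodule.smul_le.2 fun a ha q _ => ?_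
        obtain ⟨b, rfl⟩ := Ideal.mem_span_singleton'.1 ha
        obtain ⟨x, rfl⟩ := Submodule.mkQ_surjective (LinearMap.range u) q
        have h0 : (LinearMap.range u).mkQ ((b * f) • x) = 0 :=
          (Submodule.Quotient.mk_eq_zero _).2 ⟨b • x, by simp [u, smul_smul, mul_comm]⟩
        rw [← map_smul, h0]
        exact Submodule.zero_mem _
    have hsur : Function.Surjective u := by
      refine LinearMap.range_eq_top.1 ?_
      exact Submodule.Quotient.subsingleton_iff.1 (ih Q hQ htop)
    exact subsingleton_of_forall_eq 0 fun x => Groth.L04.DerComp.Tz.eq_zero_of_iterate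
      (hs f (Finset.mem_insert_self f s)) (Function.surjInv hsur) (Function.surjInv_eq hsur) x

/-- An element acting divisibly kills a divisible element. -/
theorem TzMod.smul_eq_zero_of_divisible {f : A} (h : TzMod f M) {a : A} {m : M}
    (ha : ∀ n, ∃ b : A, ∀ x : M, a • x = f ^ n • b • x) (hm : ∀ n, ∃ x : M, m = f ^ n • x) : a • m = 0 := by
  choose b hb using ha
  choose w hw using hm
  have key : ∀ n, f • b (n + 1) • m = b n • m := fun n => by
    rw [hw n]
    calc f • b (n + 1) • f ^ n • w n = f ^ (n + 1) • b (n + 1) • w n := by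
          simp only [smul_smul]; ring_nf
      _ = f ^ n • b n • w n := (hb (n + 1) _).symm.trans (hb n _)
      _ = b n • f ^ n • w n := smul_comm _ _ _
  have h0 := congrFun (h.seq_eq_zero (x := fun n => b n • m) key) 0
  rw [hb 0 m, pow_zero, one_smul]
  exact h0

theorem iInf_pow_sup_pow_le (s : Finset A) :
    ∀ 𝔟 : Ideal A, (∀ f ∈ s, TzMod f (A ⧸ 𝔟)) →
      (⨅ n : ℕ, (Ideal.span (s : Set A) ^ n ⊔ 𝔟)) ^ 2 ^ s.card ≤ 𝔟 := by
  classical
  induction s using Finset.induction_on with
  | empty =>
    intro 𝔟 _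
    rw [Finset.card_empty, pow_zero, pow_one]
    refine (iInf_le _ 1).trans ?_
    simp
  | @insert f t hft ih =>
    intro 𝔟 hs
    rw [Finset.card_insert_of_notMem hft, pow_succ, pow_mul]
    have hk : ∀ k, (⨅ n : ℕ, (Ideal.span ((insert f t : Finset A) : Set A) ^ n ⊔ 𝔟)) ^ 2 ^ t.card ≤
        𝔟 ⊔ Ideal.span {f ^ k} := by
      intro k
      refine le_trans (Ideal.pow_right_mono (le_iInf fun n => ?_) _) (ih (𝔟 ⊔ Ideal.span {f ^ k}) fun g hg => ?_)
      · refine (iInf_le _ (k + n)).trans (sup_le ?_ (le_sup_left.trans le_sup_right))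
        rw [Finset.coe_insert, Ideal.span_insert]
        refine Ideal.sup_pow_add_le_pow_sup_pow.trans (sup_le ?_ le_sup_left)
        rw [Ideal.span_singleton_pow]
        exact le_sup_right.trans le_sup_right
      · let u : (A ⧸ 𝔟) →ₗ[A] (A ⧸ 𝔟) := f ^ k • LinearMap.id
        have hg' := hs g (Finset.mem_insert_of_mem hg)
        have hr : LinearMap.range u = Submodule.map (Submodule.mkQ 𝔟) (Ideal.span {f ^ k}) := by
          refine le_antisymm ?_ ?_
          · rintro _ ⟨q, rfl⟩
            obtain ⟨x, rfl⟩ := Submodule.mkQ_surjective 𝔟 q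
            exact ⟨f ^ k * x, Ideal.mul_mem_right _ _ (Ideal.mem_span_singleton_self _), rfl⟩
          · rintro _ ⟨y, hy, rfl⟩
            obtain ⟨b, rfl⟩ := Ideal.mem_span_singleton'.1 hy
            exact ⟨Submodule.mkQ 𝔟 b, congrArg (Submodule.mkQ 𝔟) (mul_comm _ _)⟩
        exact (TzMod.congr ((Submodule.quotEquivOfEq _ _ hr).trans
          (Submodule.quotientQuotientEquivQuotientSup 𝔟 (Ideal.span {f ^ k})))).1 (TzMod.coker u hg' hg')
    refine (pow_two _).trans_le (Ideal.mul_le.2 fun a ha m hm => ?_)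
    have hd : ∀ z ∈ (⨅ n : ℕ, (Ideal.span ((insert f t : Finset A) : Set A) ^ n ⊔ 𝔟)) ^ 2 ^ t.card,
        ∀ k, ∃ b, ∀ x : A ⧸ 𝔟, z • x = f ^ k • b • x := fun z hz k => by
      obtain ⟨c, hc, e, he, rfl⟩ := Submodule.mem_sup.1 (hk k hz)
      obtain ⟨b, rfl⟩ := Ideal.mem_span_singleton'.1 he
      refine ⟨b, fun x => ?_⟩
      obtain ⟨x, rfl⟩ := Submodule.mkQ_surjective 𝔟 x
      have h0 : c • Submodule.mkQ 𝔟 x = 0 := by
        rw [← map_smul]
        exact (Submodule.Quotient.mk_eq_zero _).2 (Ideal.mul_mem_right _ _ hc)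
      rw [add_smul, h0, zero_add, mul_comm, mul_smul]
    have := (hs f (Finset.mem_insert_self f t)).smul_eq_zero_of_divisible (m := Submodule.mkQ 𝔟 m) (hd a ha)
      (fun k => by
        obtain ⟨b, hb⟩ := hd m hm k
        exact ⟨b • Submodule.mkQ 𝔟 1, by rw [← hb, ← map_smul, smul_eq_mul, mul_one]⟩)
    rw [← map_smul, smul_eq_mul] at this
    exact (Submodule.Quotient.mk_eq_zero 𝔟).1 this

theorem span_pow_le_span_pow (s : Finset A) (k : ℕ) :
    Ideal.span (s : Set A) ^ (s.card * k + 1) ≤ Ideal.span ((fun g => g ^ k) '' (s : Set A)) := by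
  classical
  induction s using Finset.induction_on with
  | empty => simp
  | @insert f t hft ih =>
    rw [Finset.card_insert_of_notMem hft, Finset.coe_insert, Set.image_insert_eq, Ideal.span_insert,
      Ideal.span_insert, show (t.card + 1) * k + 1 = k + (t.card * k + 1) by ring]
    refine Ideal.sup_pow_add_le_pow_sup_pow.trans (sup_le_sup ?_ ih)
    rw [Ideal.span_singleton_pow]

theorem exists_sum_of_mem_span_smul_top (s : Finset A) (g : A → A) {x : M}
    (hx : x ∈ Ideal.span (g '' (s : Set A)) • (⊤ : Submodule A M)) :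
    ∃ y : A → M, x = ∑ i ∈ s, g i • y i := by
  classical
  let T : Submodule A M :=
    LinearMap.range (∑ i ∈ s, g i • LinearMap.proj (φ := fun _ : A => M) i : (A → M) →ₗ[A] M)
  have key : Ideal.span (g '' (s : Set A)) • (⊤ : Submodule A M) ≤ T := by
    refine Submodule.smul_le.2 fun r hr n _ => ?_
    refine (Ideal.span_le (I := T.comap (LinearMap.toSpanSingleton A M n))).2 ?_ hr
    rintro _ ⟨i, hi, rfl⟩
    refine ⟨Pi.single i n, ?_⟩
    rw [LinearMap.sum_apply, Finset.sum_eq_single i]
    · simp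
    · intro j _ hj
      simp [Pi.single_eq_of_ne hj]
    · exact fun h => absurd hi h
  obtain ⟨y, hy⟩ := key hx
  exact ⟨y, by simp [← hy]⟩

theorem isPrecomplete_of_tzMod (s : Finset A) (h : ∀ f ∈ s, TzMod f M) :
    IsPrecomplete (Ideal.span (s : Set A)) M := by
  classical
  refine ⟨fun m hm => ?_⟩
  let c : ℕ → ℕ := fun k => (s.card + 1) * k + 1
  have hc : ∀ k, k ≤ c k := fun k => le_trans (Nat.le_mul_of_pos_left k (Nat.succ_pos _)) (Nat.le_succ _)
  have hmem : ∀ k, m (c (k + 1)) - m (c k) ∈
      Ideal.span ((fun g => g ^ k) '' (s : Set A)) • (⊤ : Submodule A M) := fun k => by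
    refine Submodule.smul_mono_left ((Ideal.pow_le_pow_right ?_).trans (span_pow_le_span_pow s k))
      (SModEq.sub_mem.1 (hm (show c k ≤ c (k + 1) from ?_)).symm)
    · simp only [c]; nlinarith
    · simp only [c]; nlinarith
  choose y hy using fun k => exists_sum_of_mem_span_smul_top s _ (hmem k)
  have hx : ∀ f : A, ∃ x : ℕ → M, f ∈ s → ∀ i, x i = y i f + f • x (i + 1) := fun f => by
    by_cases hf : f ∈ s
    · exact ((h f hf).exists_seq fun i => y i f).imp fun x hx _ => hx
    · exact ⟨0, fun h => absurd h hf⟩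
  choose x hx using hx
  refine ⟨m (c 0) + ∑ f ∈ s, x f 0, fun K => ?_⟩
  have hK : ∀ K, m (c 0) + ∑ f ∈ s, x f 0 = m (c K) + ∑ f ∈ s, f ^ K • x f K := fun K => by
    induction K with
    | zero => simp
    | succ K ih =>
      rw [ih, ← sub_add_cancel (m (c (K + 1))) (m (c K)), hy K, add_comm (∑ i ∈ s, _) (m (c K)), add_assoc,
        ← Finset.sum_add_distrib]
      refine congrArg _ (Finset.sum_congr rfl fun f hf => ?_)
      rw [hx f hf K, smul_add, smul_smul, ← pow_succ]
  rw [hK K]
  refine (hm (hc K)).trans (SModEq.sub_mem.2 ?_)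
  rw [sub_add_cancel_left, Submodule.neg_mem_iff]
  exact Submodule.sum_mem _ fun f hf =>
    Submodule.smul_mem_smul (Ideal.pow_mem_pow (Ideal.subset_span hf) K) Submodule.mem_top

theorem exists_pow_smul_eq_zero {f : A} (h : TzMod f M) (ht : ∀ x : M, ∃ n : ℕ, f ^ n • x = 0) :
    ∃ n : ℕ, ∀ x : M, f ^ n • x = 0 := by
  classical
  by_cases hD : ∃ m : ℕ, ∀ (x : M) (k : ℕ), ∃ w : M, f ^ m • x = f ^ k • w
  · obtain ⟨m, hm⟩ := hD
    refine ⟨m, fun x => ?_⟩
    choose w hw using fun x : M => hm x (m + 1)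
    have := congrFun (h.seq_eq_zero (x := fun i => f ^ m • w^[i] x) fun i => by
      rw [Function.iterate_succ_apply', smul_smul, ← pow_succ']
      exact (hw _).symm) 0
    exact this
  · push Not at hD
    exfalso
    have step : ∀ (n : ℕ) (P : M) (k : ℕ), ∃ (z : M) (k' : ℕ), k < k' ∧
        ∀ w : M, f ^ n • (P + f ^ k • z) ≠ f ^ (n + k') • w := fun n P k => by
      obtain ⟨x, l, hl⟩ := hD (n + k)
      by_cases hP : ∃ w, f ^ n • P = f ^ l • w
      · obtain ⟨w₀, hw₀⟩ := hP
        refine ⟨x, l + k + 1, by omega, fun w hw => hl (f ^ (n + k + 1) • w - w₀) ?_⟩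
        rw [smul_sub, ← hw₀, smul_smul, ← pow_add, eq_sub_iff_add_eq,
          show l + (n + k + 1) = n + (l + k + 1) by omega, ← hw, smul_add, smul_smul, ← pow_add, add_comm]
      · refine ⟨0, l + k + 1, by omega, fun w hw => hP ⟨f ^ (n + k + 1) • w, ?_⟩⟩
        rw [smul_zero, add_zero] at hw
        rw [hw, smul_smul, ← pow_add]
        congr 2
        omega
    choose z k' hlt hne using step
    let F : ℕ → M × ℕ := fun n => Nat.rec ((0 : M), 0)
      (fun n p => (p.1 + f ^ p.2 • z n p.1 p.2, k' n p.1 p.2)) n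
    let k : ℕ → ℕ := fun n => (F n).2
    let hv : ℕ → M := fun n => z n (F n).1 (F n).2
    have hk : StrictMono k := strictMono_nat_of_lt_succ fun n => hlt n (F n).1 (F n).2
    let y : ℕ → M := Function.extend k hv 0
    obtain ⟨x, hx⟩ := h.exists_seq y
    have hP : ∀ n, (F n).1 = ∑ i ∈ Finset.range (k n), f ^ i • y i := fun n => by
      induction n with
      | zero => exact (Finset.sum_range_zero _).symm
      | succ n ih =>
        rw [← Finset.sum_range_add_sum_Ico _ (hk (Nat.lt_succ_self n)).le, ← ih, Finset.sum_eq_single (k n)]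
        · change (F n).1 + f ^ k n • hv n = (F n).1 + f ^ k n • y (k n)
          rw [show y (k n) = hv n from hk.injective.extend_apply hv 0 n]
        · intro i hi hne'
          rw [Finset.mem_Ico] at hi
          have : y i = 0 := Function.extend_apply' _ _ _ (by
            rintro ⟨j, rfl⟩
            have h1 : n < j := hk.lt_iff_lt.1 (lt_of_le_of_ne hi.1 (Ne.symm hne'))
            have h2 : j < n + 1 := hk.lt_iff_lt.1 hi.2
            omega)
          rw [this, smul_zero]
        · exact fun h' => absurd (Finset.left_mem_Ico.2 (hk (Nat.lt_succ_self n))) h'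
    obtain ⟨n, hn⟩ := ht (x 0)
    refine hne n (F n).1 (F n).2 (-x (k (n + 1))) ?_
    rw [TzMod.seq_expand hx (k (n + 1)), ← hP (n + 1), smul_add, smul_smul, ← pow_add] at hn
    rw [smul_neg]
    exact eq_neg_of_add_eq_zero_left hn

end Groth.L04.RGamma
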