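import Groth.Agent.L04.RGamma.Derived
import Groth.Agent.L04.DerComp.Detect
import Mathlib.RingTheory.Localization.Away.Basic

/-!
Derived completeness in `D(A)` through `1 - f · shift` on countable sequences of morphisms out of any object.
-/

set_option autoImplicit false
set_option backward.isDefEq.respectTransparency false
universe u

open CategoryTheory CategoryTheory.Limits CategoryTheory.Pretriangulated DRing

attribute [local instance] HasDerivedCategory.standard

noncomputable section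

namespace Groth.L04.RGamma

open Groth.L04.DerComp (theta Tz preEnd theta_apply)

variable {A : Type u} [CommRing A]

/-- Modules in degree zero. -/
abbrev S₀ (A : Type u) [CommRing A] : ModuleCat.{u} A ⥤ Dual.D A := DerivedCategory.singleFunctor (ModuleCat.{u} A) 0

/-- The regular module. -/
abbrev R₁ (A : Type u) [CommRing A] : ModuleCat.{u} A := ModuleCat.of A A

/-- Multiplication by `f` on the regular module. -/
abbrev mulF (f : A) : R₁ A ⟶ R₁ A := f • 𝟙 _

/-- `1 - f · shift`. -/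
abbrev locF (f : A) : (∐ fun _ : ℕ => R₁ A) ⟶ ∐ fun _ : ℕ => R₁ A :=
  𝟙 _ - DerLim.shiftMap (fun _ : ℕ => R₁ A) (fun _ => mulF f)

instance hasExactColimitsOfShapeNat : HasExactColimitsOfShape ℕ (ModuleCat.{u} A) :=
  haveI : HasFilteredColimitsOfSize.{u, u} (ModuleCat.{u} A) := ⟨fun _ _ _ => inferInstance⟩
  haveI : HasFilteredColimitsOfSize.{0, 0} (ModuleCat.{u} A) := hasFilteredColimitsOfSize_shrink.{0, 0, u, u}
  haveI : AB5OfSize.{0, 0} (ModuleCat.{u} A) := AB5OfSize_shrink.{0, 0, u, u} (ModuleCat.{u} A)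
  inferInstance

instance mono_locF (f : A) : Mono (locF f) :=
  Groth.L10.SeqColim.mono_one_sub_shift (fun _ : ℕ => R₁ A) _

theorem ι_locF (f : A) (n : ℕ) : Sigma.ι (fun _ : ℕ => R₁ A) n ≫ locF f =
    Sigma.ι (fun _ : ℕ => R₁ A) n - mulF f ≫ Sigma.ι (fun _ : ℕ => R₁ A) (n + 1) := by
  simp [locF, DerLim.shiftMap]

/-- The class of the `i`-th generator. -/
abbrev gen (f : A) (i : ℕ) : (cokernel (locF f) : ModuleCat.{u} A) :=
  (Sigma.ι (fun _ : ℕ => R₁ A) i ≫ cokernel.π (locF f)).hom (1 : A)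

theorem gen_succ (f : A) (i : ℕ) : gen f i = f • gen f (i + 1) := by
  have h := congrArg (fun φ => φ.hom (1 : A)) (congrArg (· ≫ cokernel.π (locF f)) (ι_locF f i))
  simp only [Category.assoc, cokernel.condition, comp_zero, Preadditive.sub_comp] at h
  have h' : (Sigma.ι (fun _ : ℕ => R₁ A) i ≫ cokernel.π (locF f)).hom (1 : A) -
      f • (Sigma.ι (fun _ : ℕ => R₁ A) (i + 1) ≫ cokernel.π (locF f)).hom (1 : A) = 0 := by
    refine Eq.trans ?_ h.symm
    simp [mulF, Linear.smul_comp]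
  exact sub_eq_zero.1 h'

theorem gen_add (f : A) (i j : ℕ) : gen f i = f ^ j • gen f (i + j) := by
  induction j with
  | zero => rw [pow_zero, one_smul, add_zero]
  | succ j ih => rw [ih, gen_succ f (i + j), ← mul_smul, ← pow_succ, add_assoc]

theorem exists_eq_smul_gen (f : A) (x : (cokernel (locF f) : ModuleCat.{u} A)) :
    ∃ (i : ℕ) (r : A), x = r • gen f i := by
  let S : Submodule A (cokernel (locF f) : ModuleCat.{u} A) := Submodule.span A (Set.range (gen f))
  have hS : ModuleCat.ofHom S.mkQ = 0 := by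
    refine coequalizer.hom_ext (Sigma.hom_ext _ _ fun i => ModuleCat.hom_ext (LinearMap.ext_ring ?_))
    rw [comp_zero, comp_zero]
    exact (Submodule.Quotient.mk_eq_zero S).2 (Submodule.subset_span ⟨i, rfl⟩)
  have hx : x ∈ S := (Submodule.Quotient.mk_eq_zero S).1 (congrArg (fun φ => φ.hom x) hS)
  induction hx using Submodule.span_induction with
  | mem x hx => obtain ⟨i, rfl⟩ := hx; exact ⟨i, 1, (one_smul A _).symm⟩
  | zero => exact ⟨0, 0, (zero_smul A _).symm⟩
  | add x y _ _ hx hy =>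
    obtain ⟨i, r, rfl⟩ := hx
    obtain ⟨j, s, rfl⟩ := hy
    refine ⟨i + j, r * f ^ j + s * f ^ i, ?_⟩
    rw [add_smul, mul_smul, mul_smul, ← gen_add f i j, show i + j = j + i from add_comm i j, ← gen_add f j i]
  | smul c x _ hx => obtain ⟨i, r, rfl⟩ := hx; exact ⟨i, c * r, (mul_smul _ _ _).symm⟩

/-- The cokernel of `1 - f · shift` is `A_f`. -/
theorem nonempty_cokernel_iso (f : A) :
    Nonempty (cokernel (locF f) ≅ ModuleCat.of A (Localization.Away f)) := by
  let L := Localization.Away f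
  let q : ℕ → L := fun i => IsLocalization.mk' L (1 : A) (⟨f ^ i, i, rfl⟩ : Submonoid.powers f)
  have hq : ∀ i, f • q (i + 1) = q i := fun i => by
    rw [Algebra.smul_def, IsLocalization.mul_mk'_eq_mk'_of_mul, mul_one]
    refine IsLocalization.mk'_eq_of_eq ?_
    show f ^ (i + 1) * 1 = f ^ i * f
    rw [mul_one, pow_succ]
  let d : (∐ fun _ : ℕ => R₁ A) ⟶ ModuleCat.of A L :=
    Sigma.desc fun i => ModuleCat.ofHom (LinearMap.toSpanSingleton A L (q i))
  have hd : locF f ≫ d = 0 := by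
    refine Sigma.hom_ext _ _ fun i => ModuleCat.hom_ext (LinearMap.ext_ring ?_)
    rw [← Category.assoc, ι_locF, Preadditive.sub_comp, Category.assoc, Sigma.ι_desc, Sigma.ι_desc, comp_zero]
    show (1 : A) • q i - (f • (1 : A)) • q (i + 1) = 0
    rw [one_smul, smul_eq_mul, mul_one, hq, sub_self]
  let e := cokernel.desc (locF f) d hd
  have hgen : ∀ i, e.hom (gen f i) = q i := fun i => by
    change ((Sigma.ι (fun _ : ℕ => R₁ A) i ≫ cokernel.π (locF f)) ≫ e).hom (1 : A) = q i
    rw [Category.assoc, cokernel.π_desc, Sigma.ι_desc]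
    exact one_smul A (q i)
  haveI : IsIso e := by
    rw [ConcreteCategory.isIso_iff_bijective]
    refine ⟨(injective_iff_map_eq_zero e.hom).2 fun x hx => ?_, fun y => ?_⟩
    · obtain ⟨i, r, rfl⟩ := exists_eq_smul_gen f x
      rw [map_smul, hgen, Algebra.smul_def, IsLocalization.mul_mk'_eq_mk'_of_mul, mul_one,
        IsLocalization.mk'_eq_zero_iff] at hx
      obtain ⟨⟨_, k, rfl⟩, hk⟩ := hx
      rw [gen_add f i k, ← mul_smul, mul_comm, show f ^ k * r = 0 from hk, zero_smul]
    · obtain ⟨r, ⟨_, i, rfl⟩, rfl⟩ := IsLocalization.exists_mk'_eq (Submonoid.powers f) y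
      refine ⟨r • gen f i, ?_⟩
      rw [map_smul, hgen, Algebra.smul_def, IsLocalization.mul_mk'_eq_mk'_of_mul, mul_one]
  exact ⟨asIso e⟩

/-- Multiplication by `f` on morphisms. -/
def fEnd (f : A) (X K : Dual.D A) : AddMonoid.End (X ⟶ K) :=
  AddMonoidHom.mk' (fun a => f • a) fun a b => smul_add f a b

theorem fEnd_apply (f : A) (X K : Dual.D A) (a : X ⟶ K) : fEnd f X K a = f • a := rfl

theorem subsingleton_shift_iff {X K : Dual.D A} :
    (∀ n : ℤ, Subsingleton (X ⟶ K⟦n⟧)) ↔ ∀ n : ℤ, Subsingleton (X⟦n⟧ ⟶ K) := by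
  refine ⟨fun h n => ?_, fun h n => ?_⟩
  · exact @Equiv.subsingleton _ _
      ((shiftEquiv' (Dual.D A) n (-n) (add_neg_cancel n)).toAdjunction.homEquiv X K) (h (-n))
  · exact @Equiv.subsingleton _ _
      ((shiftEquiv' (Dual.D A) (-n) n (neg_add_cancel n)).toAdjunction.homEquiv X K).symm (h (-n))

theorem subsingleton_away_iff (f : A) (K : Dual.D A) :
    (∀ n : ℤ, Subsingleton (Dual.inD A (Localization.Away f) ⟶ K⟦n⟧)) ↔
      ∀ n : ℤ, Tz (fEnd f (((S₀ A).obj (R₁ A))⟦n⟧) K) := by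
  obtain ⟨i⟩ := nonempty_cokernel_iso f
  rw [subsingleton_shift_iff]
  have h2 : ∀ n : ℤ, preEnd (((S₀ A).map (mulF f))⟦n⟧') K = fEnd f (((S₀ A).obj (R₁ A))⟦n⟧) K := fun n => by
    refine AddMonoidHom.ext fun a => ?_
    rw [Groth.L04.DerComp.preEnd_apply, fEnd_apply]
    simp [mulF, Functor.map_smul, Linear.smul_comp]
  simp only [← h2]
  rw [Groth.L04.DerComp.forall_tz_iff (R₁ A) (mulF f) K]
  exact forall_congr' fun n =>
    ⟨fun h => @Equiv.subsingleton _ _ ((shiftFunctor _ n).mapIso ((S₀ A).mapIso i)).homFromEquiv h,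
      fun h => @Equiv.subsingleton _ _ ((shiftFunctor _ n).mapIso ((S₀ A).mapIso i)).symm.homFromEquiv h⟩

theorem isSeparating_regular : (ObjectProperty.ofObj fun _ : PUnit.{1} => R₁ A).IsSeparating := by
  intro X Y a b h
  refine ModuleCat.hom_ext (LinearMap.ext fun x => ?_)
  have := congrArg (fun φ => φ.hom (1 : A)) (h (R₁ A) ⟨PUnit.unit⟩ (ModuleCat.ofHom (LinearMap.toSpanSingleton A X x)))
  simpa using this

/-- Completeness tests on the regular module propagate to every object. -/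
theorem tz_of_complete {f : A} {K : Dual.D A}
    (hK : ∀ n : ℤ, Subsingleton (Dual.inD A (Localization.Away f) ⟶ K⟦n⟧)) (X : Dual.D A) :
    Tz (fEnd f X K) := by
  haveI : HasProductsOfShape ℕ (Dual.D A) := Groth.L10.DerivedProd.hasProductsOfShape
  let σ : (∏ᶜ fun _ : ℕ => K) ⟶ ∏ᶜ fun _ : ℕ => K :=
    𝟙 _ - Pi.lift fun i => f • Pi.π (fun _ : ℕ => K) (i + 1)
  have hσ : ∀ (Y : Dual.D A) (g : Y ⟶ ∏ᶜ fun _ : ℕ => K) (i : ℕ), (g ≫ σ) ≫ Pi.π (fun _ : ℕ => K) i =
      theta (fEnd f Y K) (fun j => g ≫ Pi.π (fun _ : ℕ => K) j) i := fun Y g i => by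
    rw [theta_apply, fEnd_apply]
    simp [σ, Category.assoc, Preadditive.sub_comp, Linear.comp_smul]
  let E : ∀ Y : Dual.D A, (Y ⟶ ∏ᶜ fun _ : ℕ => K) ≃ (ℕ → (Y ⟶ K)) := fun Y =>
    { toFun := fun g j => g ≫ Pi.π (fun _ : ℕ => K) j
      invFun := fun x => Pi.lift x
      left_inv := fun g => Pi.hom_ext _ _ fun j => Pi.lift_π _ _
      right_inv := fun x => funext fun j => Pi.lift_π _ _ }
  have hc : ∀ Y : Dual.D A, theta (fEnd f Y K) ∘ E Y = E Y ∘ (fun g => g ≫ σ) := fun Y =>
    funext fun g => funext fun i => (hσ Y g i).symm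
  haveI : IsIso σ := by
    refine Groth.L04.DerComp.isIso_of_separating (fun _ : PUnit.{1} => R₁ A) isSeparating_regular σ fun _ n => ?_
    have h1 : Function.Bijective (E (((S₀ A).obj (R₁ A))⟦n⟧) ∘ fun g => g ≫ σ) :=
      hc _ ▸ ((subsingleton_away_iff f K).1 hK n).comp (E _).bijective
    exact (Function.Bijective.of_comp_iff' (E _).bijective _).1 h1
  have h2 : Function.Bijective (theta (fEnd f X K) ∘ E X) := by
    rw [hc]
    exact (E X).bijective.comp ((asIso σ).homToEquiv (Z := X)).bijective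
  exact (Function.Bijective.of_comp_iff _ (E X).bijective).1 h2

/-- Nothing on which `f` acts invertibly maps to a complete object. -/
theorem eq_zero_of_complete {f : A} {K : Dual.D A}
    (hK : ∀ n : ℤ, Subsingleton (Dual.inD A (Localization.Away f) ⟶ K⟦n⟧)) {X : Dual.D A}
    (h : Function.Surjective fun a : X ⟶ K => f • a) (a : X ⟶ K) : a = 0 :=
  (tz_of_complete hK X).eq_zero_of_iterate (Function.surjInv h) (Function.surjInv_eq h) a

end Groth.L04.RGamma
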