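import Groth.Agent.L04.RGamma.Torsion
import Groth.Agent.L10.KInjDerived
import Groth.Agent.L00.CellTower
import Mathlib.Algebra.Category.ModuleCat.AB

/-!
`RΓ_I` on complexes of injective modules over a Noetherian ring, and the torsion criterion.
-/

set_option autoImplicit false
set_option backward.isDefEq.respectTransparency false
universe u

open CategoryTheory CategoryTheory.Limits DRing CategoryTheory.Pretriangulated CochainComplex

attribute [local instance] HasDerivedCategory.standard

noncomputable section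

namespace Groth.L04.RGamma

variable {A : Type u} [CommRing A]

/-- The object of `D(A)` of a complex, through the homotopy category. -/
abbrev qq : DRing.Cx A ⥤ Dual.D A :=
  HomotopyCategory.quotient (ModuleCat.{u} A) (ComplexShape.up ℤ) ⋙ DerivedCategory.Qh

theorem isIso_qq_map {X Y : DRing.Cx A} (f : X ⟶ Y) [QuasiIso f] : IsIso (qq.map f) :=
  Localization.inverts DerivedCategory.Qh (HomotopyCategory.quasiIso (ModuleCat.{u} A) (ComplexShape.up ℤ)) _
    ((HomotopyCategory.quotient_map_mem_quasiIso_iff f).2 ((HomologicalComplex.mem_quasiIso_iff f).2 ‹_›))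

theorem quasiIso_of_isIso_qq_map {X Y : DRing.Cx A} (f : X ⟶ Y) [IsIso (qq.map f)] : QuasiIso f := by
  rw [← DerivedCategory.isIso_Q_map_iff_quasiIso]
  exact (NatIso.isIso_map_iff (DerivedCategory.quotientCompQhIso (ModuleCat.{u} A)) f).1 ‹_›

theorem isZero_homology_mappingCone {X Y : DRing.Cx A} (f : X ⟶ Y) [QuasiIso f] (n : ℤ) :
    IsZero ((mappingCone f).homology n) := by
  have hT : DerivedCategory.Q.mapTriangle.obj (mappingCone.triangle f) ∈ distinguishedTriangles :=
    (DerivedCategory.mem_distTriang_iff _).mpr ⟨_, _, f, ⟨Iso.refl _⟩⟩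
  have h0 : IsZero (DerivedCategory.Q.obj (mappingCone f)) :=
    (Pretriangulated.Triangle.isZero₃_iff_isIso₁ _ hT).mpr
      (inferInstanceAs (IsIso (DerivedCategory.Q.map f)))
  exact IsZero.of_iso ((DerivedCategory.homologyFunctor (ModuleCat.{u} A) n).map_isZero h0)
    ((DerivedCategory.homologyFunctorFactors _ n).app _).symm

theorem injective_mappingCone {X Y : DRing.Cx A} (f : X ⟶ Y) (hX : ∀ n, Injective (X.X n))
    (hY : ∀ n, Injective (Y.X n)) (n : ℤ) : Injective ((mappingCone f).X n) := by
  haveI := hX (n + 1); haveI := hY n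
  exact Injective.of_iso (HomologicalComplex.homotopyCofiber.XIsoBiprod f n (n + 1) (by simp)).symm inferInstance

theorem quasiIso_gammaCx_map [IsNoetherianRing A] (I : Ideal A) {X Y : DRing.Cx A} (f : X ⟶ Y) [QuasiIso f]
    (hX : ∀ n, Injective (X.X n)) (hY : ∀ n, Injective (Y.X n)) : QuasiIso ((gammaCx I).map f) := by
  refine Groth.L00.Cell.quasiIso_of_acyclic_cone _ fun n => ?_
  have h : IsZero (((gammaCx I).obj (mappingCone f)).homology n) :=
    (exactAt_gammaCx I _ (injective_mappingCone f hX hY)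
      (fun m => (HomologicalComplex.exactAt_iff_isZero_homology _ _).2 (isZero_homology_mappingCone f m)) n).isZero_homology
  exact h.of_iso ((HomologicalComplex.homologyFunctor (ModuleCat.{u} A) (ComplexShape.up ℤ) n).mapIso
    (mappingCone.mapHomologicalComplexIso f (gammaI I))).symm

variable (I : Ideal A) [DRing.HasRgammaI I]

/-- The comparison `Γ_I X ⟶ RΓ_I X`. -/
def toR (X : DRing.Cx A) : qq.obj ((gammaCx I).obj X) ⟶ (DRing.RgammaI I).obj (qq.obj X) :=
  ((gammaIKh I).totalRightDerivedUnit DerivedCategory.Qh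
    (HomotopyCategory.quasiIso (ModuleCat.{u} A) (ComplexShape.up ℤ))).app
    ((HomotopyCategory.quotient (ModuleCat.{u} A) (ComplexShape.up ℤ)).obj X)

theorem toR_naturality {X Y : DRing.Cx A} (f : X ⟶ Y) :
    qq.map ((gammaCx I).map f) ≫ toR I Y = toR I X ≫ (DRing.RgammaI I).map (qq.map f) :=
  ((gammaIKh I).totalRightDerivedUnit DerivedCategory.Qh
    (HomotopyCategory.quasiIso (ModuleCat.{u} A) (ComplexShape.up ℤ))).naturality
    ((HomotopyCategory.quotient (ModuleCat.{u} A) (ComplexShape.up ℤ)).map f)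

theorem toR_ε (X : DRing.Cx A) :
    toR I X ≫ (DRing.RgammaIε I).app (qq.obj X) = qq.map (incl I X) := by
  refine ((DRing.RgammaI I).rightDerived_fac_app _ _ _ _ _).trans ?_
  show (gammaIτ0 I).app X ≫ 𝟙 _ = _
  simp [gammaIτ0]
  erw [show ((gammaI I).mapHomotopyCategoryFactors (ComplexShape.up ℤ)).hom.app X = 𝟙 _ from rfl,
    CategoryTheory.Functor.map_id, Category.id_comp, ← Functor.map_comp, ← Functor.map_comp]
  congr 2

theorem isIso_toR_of_isKInjective (X : DRing.Cx A) [X.IsKInjective] : IsIso (toR I X) :=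
  Groth.L10.KInjDerived.isIso_app_quotient
    ((gammaIKh I).totalRightDerivedUnit DerivedCategory.Qh
      (HomotopyCategory.quasiIso (ModuleCat.{u} A) (ComplexShape.up ℤ))) X

theorem isIso_toR [IsNoetherianRing A] (X : DRing.Cx A) (hX : ∀ n, Injective (X.X n)) : IsIso (toR I X) := by
  let r := Groth.L10.KInjRes.resι X
  haveI := isIso_toR_of_isKInjective I (Groth.L10.KInjRes.res X)
  haveI := quasiIso_gammaCx_map I r hX (fun n => inferInstance)
  haveI := isIso_qq_map ((gammaCx I).map r)
  haveI := isIso_qq_map r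
  have h : IsIso (toR I X ≫ (DRing.RgammaI I).map (qq.map r)) := by
    rw [← toR_naturality]; infer_instance
  exact IsIso.of_isIso_comp_right _ ((DRing.RgammaI I).map (qq.map r))

/-- Every object is the image of a K-injective complex of injectives. -/
theorem exists_rep (K : Dual.D A) : ∃ R : DRing.Cx A,
    R.IsKInjective ∧ (∀ n, Injective (R.X n)) ∧ Nonempty (qq.obj R ≅ K) := by
  let M := DerivedCategory.Q.objPreimage K
  refine ⟨Groth.L10.KInjRes.res M, inferInstance, fun n => inferInstance, ⟨?_⟩⟩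
  exact (DerivedCategory.quotientCompQhIso _).app _ ≪≫ (asIso (DerivedCategory.Q.map (Groth.L10.KInjRes.resι M))).symm ≪≫
    DerivedCategory.Q.objObjPreimageIso K

theorem isPowerTorsion_of_iso {M N : ModuleCat.{u} A} (e : M ≅ N) (h : LocCoh.IsPowerTorsion I M) :
    LocCoh.IsPowerTorsion I N := fun x => by
  obtain ⟨n, hn⟩ := h (e.inv x)
  refine ⟨n, fun a ha => ?_⟩
  have := congrArg e.hom (hn a ha)
  rwa [map_smul, map_zero, Iso.inv_hom_id_apply] at this

/-- The cohomology of `qq.obj X` is that of `X`. -/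
def hdIso (X : DRing.Cx A) (n : ℤ) :
    (DerivedCategory.homologyFunctor (ModuleCat.{u} A) n).obj (qq.obj X) ≅ X.homology n :=
  (DerivedCategory.homologyFunctor _ n).mapIso ((DerivedCategory.quotientCompQhIso _).app X) ≪≫
    (DerivedCategory.homologyFunctorFactors _ n).app X

theorem isPowerTorsion_HD_RgammaI (K : Dual.D A) (n : ℤ) :
    LocCoh.IsPowerTorsion I (Dual.HD A ((DRing.RgammaI I).obj K) n) := by
  obtain ⟨R, hR, -, ⟨e⟩⟩ := exists_rep K
  haveI := isIso_toR_of_isKInjective I R
  exact isPowerTorsion_of_iso I ((hdIso ((gammaCx I).obj R) n).symm ≪≫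
    (DerivedCategory.homologyFunctor _ n).mapIso (asIso (toR I R) ≪≫ (DRing.RgammaI I).mapIso e))
    (isPowerTorsion_homology_gammaCx I R n)

theorem isIso_ε_of_torsion [IsNoetherianRing A] (K : Dual.D A)
    (hK : ∀ n, LocCoh.IsPowerTorsion I (Dual.HD A K n)) : IsIso ((DRing.RgammaIε I).app K) := by
  obtain ⟨R, hR, hinj, ⟨e⟩⟩ := exists_rep K
  haveI := quasiIso_incl_of_torsion I R hinj fun n => isPowerTorsion_of_iso I
    ((DerivedCategory.homologyFunctor _ n).mapIso e.symm ≪≫ hdIso R n) (hK n)
  haveI := isIso_toR_of_isKInjective I R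
  haveI : IsIso (toR I R ≫ (DRing.RgammaIε I).app (qq.obj R)) := by
    rw [toR_ε]; exact isIso_qq_map _
  haveI := IsIso.of_isIso_comp_left (toR I R) ((DRing.RgammaIε I).app (qq.obj R))
  exact (NatTrans.isIso_app_iff_of_iso (DRing.RgammaIε I) e).1 inferInstance

theorem isIso_RgammaI_map_ε [IsNoetherianRing A] (K : Dual.D A) :
    IsIso ((DRing.RgammaI I).map ((DRing.RgammaIε I).app K)) := by
  have h1 := isIso_ε_of_torsion I ((DRing.RgammaI I).obj K) (isPowerTorsion_HD_RgammaI I K)
  obtain ⟨R, hR, hinj, ⟨e⟩⟩ := exists_rep K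
  haveI := isIso_toR_of_isKInjective I R
  haveI := isIso_toR I ((gammaCx I).obj R) (injective_gammaCx I R hinj)
  haveI : QuasiIso ((gammaCx I).map (incl I R)) := by
    haveI : ∀ n, IsIso (((gammaCx I).map (incl I R)).f n) := fun n => by
      rw [ConcreteCategory.isIso_iff_bijective]
      refine ⟨fun x y h => Subtype.ext (Subtype.ext (congrArg Subtype.val h)), fun y => ?_⟩
      obtain ⟨k, hk⟩ := y.2
      exact ⟨⟨y, k, fun a ha => Subtype.ext (hk a ha)⟩, rfl⟩
    haveI := HomologicalComplex.Hom.isIso_of_components ((gammaCx I).map (incl I R))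
    infer_instance
  haveI := isIso_qq_map ((gammaCx I).map (incl I R))
  have h2 : IsIso ((DRing.RgammaI I).map ((DRing.RgammaIε I).app (qq.obj R))) := by
    have h3 : IsIso ((DRing.RgammaI I).map (qq.map (incl I R))) := by
      have : IsIso (toR I ((gammaCx I).obj R) ≫ (DRing.RgammaI I).map (qq.map (incl I R))) := by
        rw [← toR_naturality]; infer_instance
      exact IsIso.of_isIso_comp_left (toR I ((gammaCx I).obj R)) _
    rw [← toR_ε, Functor.map_comp] at h3
    exact IsIso.of_isIso_comp_left ((DRing.RgammaI I).map (toR I R)) _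
  exact (NatTrans.isIso_app_iff_of_iso (Functor.whiskerRight (DRing.RgammaIε I) (DRing.RgammaI I)) e).1 h2

end Groth.L04.RGamma
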