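import Groth.Agent.L04.RGamma.Torsion
import Groth.Agent.L29.Dual.Gamma
import Groth.Prelude.Def_DualLC
import Mathlib.Algebra.Category.ModuleCat.FilteredColimits
import Mathlib.Algebra.Category.ModuleCat.Colimits
import Mathlib.Algebra.Category.Grp.FilteredColimits
import Mathlib.CategoryTheory.Limits.ConcreteCategory.Basic

/-!
`colim_n Hom_{D(A)}(A/I^n, W) = H^0(Γ_I W)` for a K-injective complex `W`.
-/

set_option autoImplicit false
set_option backward.isDefEq.respectTransparency false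
universe u

open CategoryTheory CategoryTheory.Limits DRing

attribute [local instance] HasDerivedCategory.standard

noncomputable section

namespace Groth.L04.RGamma

open Groth.L29.HomD (singleIso cocycleClass cycleHom cycleHom_f cycleClass cycleClass_eq_zero_iff)

variable {A : Type u} [CommRing A]

theorem cocycleClass_comp (W : DRing.Cx A) {M M' : ModuleCat.{u} A} (q : M' ⟶ M)
    (f : LinearMap.ker (Linear.rightComp A M (W.d 0 1)))
    (f' : LinearMap.ker (Linear.rightComp A M' (W.d 0 1))) (hf' : f'.1 = q ≫ f.1) :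
    (DerivedCategory.singleFunctor (ModuleCat.{u} A) 0).map q ≫ cocycleClass W M f =
      cocycleClass W M' f' := by
  have hn : (DerivedCategory.singleFunctor (ModuleCat.{u} A) 0).map q ≫ (singleIso M).hom =
      (singleIso M').hom ≫ DerivedCategory.Q.map ((CochainComplex.singleFunctor (ModuleCat.{u} A) 0).map q) :=
    ((SingleFunctors.evaluation _ _ 0).mapIso
      (DerivedCategory.singleFunctorsPostcompQIso (ModuleCat.{u} A))).hom.naturality q
  have hc' : (CochainComplex.singleFunctor (ModuleCat.{u} A) 0).map q ≫ cycleHom W M f.1 f.2 =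
      cycleHom W M' f'.1 f'.2 := by
    refine HomologicalComplex.from_single_hom_ext ?_
    rw [HomologicalComplex.comp_f, cycleHom_f, cycleHom_f]
    simp [hf', CochainComplex.singleFunctor, CochainComplex.singleFunctors, HomologicalComplex.single_map_f_self]
  change _ ≫ ((singleIso M).hom ≫ DerivedCategory.Q.map (cycleHom W M f.1 f.2) ≫ 𝟙 _) =
    (singleIso M').hom ≫ DerivedCategory.Q.map (cycleHom W M' f'.1 f'.2) ≫ 𝟙 _
  rw [Category.comp_id, Category.comp_id, reassoc_of% hn, ← Functor.map_comp, hc']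

/-- Every morphism out of a module is the class of a cocycle. -/
theorem cc_surjective {W : DRing.Cx A} [W.IsKInjective] (M : ModuleCat.{u} A) :
    Function.Surjective (cocycleClass W M) := by
  intro t
  obtain ⟨f, hf⟩ := Groth.L29.HomD.cycleClass_surjective W M
    ((Linear.homCongr A (singleIso M).symm (Iso.refl (DRing.toD W))).symm t)
  refine ⟨f, ?_⟩
  change (Linear.homCongr A (singleIso M).symm (Iso.refl (DRing.toD W))) (cycleClass W M f) = t
  rw [hf, LinearEquiv.apply_symm_apply]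

variable (I : Ideal A) (W : DRing.Cx A)

/-- Torsion cocycles in degree zero. -/
abbrev ZΓ : Submodule A (((gammaCx I).obj W).X 0) := LinearMap.ker (((gammaCx I).obj W).d 0 1).hom

/-- The class of a torsion cocycle. -/
theorem exists_cl : ∃ cl : ZΓ I W →ₗ[A] (((gammaCx I).obj W).homology 0 : Type u), Function.Surjective cl ∧
    ∀ z, cl z = 0 ↔ ∃ y : ((gammaCx I).obj W).X (-1), ((gammaCx I).obj W).d (-1) 0 y = z.1 := by
  let Γ := (gammaCx I).obj W
  have hprev : (ComplexShape.up ℤ).prev 0 = -1 := by simp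
  have hnext : (ComplexShape.up ℤ).next 0 = 1 := by simp
  let e : Γ.cycles 0 ≃ₗ[A] ZΓ I W := LinearEquiv.ofBijective
    ((Γ.iCycles 0).hom.codRestrict (ZΓ I W) (fun z => Groth.L28.HomElt.d_iCycles 0 1 z))
    ⟨fun a b h => Groth.L28.HomElt.iCycles_injective Γ 0 (congrArg Subtype.val h),
      fun z => by
        obtain ⟨c, hc⟩ := Groth.L28.HomElt.exists_cycle (K := Γ) hnext z.1 z.2
        exact ⟨c, Subtype.ext hc⟩⟩
  refine ⟨(Γ.homologyπ 0).hom ∘ₗ e.symm.toLinearMap,
    (Groth.L28.HomElt.homologyπ_surjective Γ 0).comp e.symm.surjective, fun z => ?_⟩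
  refine (Groth.L28.HomElt.π_eq_zero_iff hprev _).trans (exists_congr fun y => iff_of_eq ?_)
  exact congrArg _ (congrArg Subtype.val (e.apply_symm_apply z))

variable {I W}

/-- The torsion cocycle given by a cocycle on a killed module and an element of it. -/
def zMap {M : ModuleCat.{u} A} {k : ℕ} (hM : ∀ a ∈ I ^ k, ∀ x : M, a • x = 0) (m : M) :
    LinearMap.ker (Linear.rightComp A M (W.d 0 1)) →ₗ[A] ZΓ I W where
  toFun f := ⟨⟨f.1.hom m, k, fun a ha => by rw [← map_smul, hM a ha, map_zero]⟩,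
    Subtype.ext (LinearMap.congr_fun (congrArg ModuleCat.Hom.hom (show f.1 ≫ W.d 0 1 = 0 from f.2)) m)⟩
  map_add' _ _ := rfl
  map_smul' _ _ := rfl

theorem ker_le [W.IsKInjective] (cl : ZΓ I W →ₗ[A] (((gammaCx I).obj W).homology 0 : Type u))
    (hcl : ∀ z, cl z = 0 ↔ ∃ y : ((gammaCx I).obj W).X (-1), ((gammaCx I).obj W).d (-1) 0 y = z.1)
    {M : ModuleCat.{u} A} {k : ℕ} (hM : ∀ a ∈ I ^ k, ∀ x : M, a • x = 0) (m : M) :
    LinearMap.ker (cocycleClass W M) ≤ LinearMap.ker (cl ∘ₗ zMap hM m) := fun f hf => by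
  rw [LinearMap.mem_ker] at hf ⊢
  change (Linear.homCongr A (singleIso _).symm (Iso.refl (DRing.toD W))) (cycleClass W _ f) = 0 at hf
  rw [LinearEquiv.map_eq_zero_iff, cycleClass_eq_zero_iff] at hf
  obtain ⟨g, hg⟩ := hf
  refine (hcl _).2 ⟨⟨g.hom m, k, fun a ha => by rw [← map_smul, hM a ha, map_zero]⟩, Subtype.ext ?_⟩
  exact LinearMap.congr_fun (congrArg ModuleCat.Hom.hom hg) m

theorem exists_val [W.IsKInjective] (cl : ZΓ I W →ₗ[A] (((gammaCx I).obj W).homology 0 : Type u))
    (hcl : ∀ z, cl z = 0 ↔ ∃ y : ((gammaCx I).obj W).X (-1), ((gammaCx I).obj W).d (-1) 0 y = z.1)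
    {M : ModuleCat.{u} A} {k : ℕ} (hM : ∀ a ∈ I ^ k, ∀ x : M, a • x = 0) (m : M) :
    ∃ val : (Dual.inD A M ⟶ DRing.toD W) →ₗ[A] (((gammaCx I).obj W).homology 0 : Type u),
      ∀ f, val (cocycleClass W M f) = cl (zMap hM m f) := by
  refine ⟨(LinearMap.ker (cocycleClass W M)).liftQ (cl ∘ₗ zMap hM m) (ker_le cl hcl hM m) ∘ₗ
    (LinearMap.quotKerEquivOfSurjective _ (cc_surjective _)).symm.toLinearMap,
    fun f => ?_⟩
  rw [LinearMap.comp_apply, LinearEquiv.coe_coe, LinearMap.quotKerEquivOfSurjective_symm_apply]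
  exact Submodule.liftQ_apply _ _ _

variable (I W)

theorem exists_homology_zero_gammaCx_equiv_colimit [W.IsKInjective]
    {X : Dual.D A} (eX : DRing.toD W ≅ X) :
    Nonempty ((Limits.colimit ((localCohomology.ringModIdeals (localCohomology.idealPowersDiagram I) ⋙
      DerivedCategory.singleFunctor (ModuleCat.{u} A) 0).op ⋙ (linearYoneda A (Dual.D A)).obj X) :
        ModuleCat.{u + 1} A) ≃ₗ[A] (((gammaCx I).obj W).homology 0 : Type u)) := by
  let D := localCohomology.idealPowersDiagram I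
  let P := localCohomology.ringModIdeals D
  let F := (P ⋙ DerivedCategory.singleFunctor (ModuleCat.{u} A) 0).op ⋙ (linearYoneda A (Dual.D A)).obj X
  haveI : IsFiltered ℕᵒᵖᵒᵖ := IsFiltered.of_equivalence (opOpEquivalence ℕ).symm
  haveI : Limits.PreservesFilteredColimitsOfSize.{0, 0} (forget AddCommGrpCat.{u + 1}) :=
    Limits.preservesSmallestFilteredColimits_of_preservesFilteredColimits.{u + 1, u + 1} _
  haveI : Limits.PreservesColimitsOfShape ℕᵒᵖᵒᵖ (forget AddCommGrpCat.{u + 1}) :=
    Limits.PreservesFilteredColimitsOfSize.preserves_filtered_colimits _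
  haveI : Limits.PreservesColimitsOfShape ℕᵒᵖᵒᵖ (forget (ModuleCat.{u + 1} A)) :=
    Limits.comp_preservesColimitsOfShape (forget₂ (ModuleCat.{u + 1} A) AddCommGrpCat.{u + 1})
      (forget AddCommGrpCat.{u + 1})
  let Γ := (gammaCx I).obj W
  obtain ⟨cl, hcls, hcl0⟩ := exists_cl I W
  have hkill : ∀ (j : ℕᵒᵖᵒᵖ) (a : A), a ∈ I ^ j.unop.unop → ∀ x : P.obj j.unop, a • x = 0 := fun j a ha x => by
    obtain ⟨x, rfl⟩ := Submodule.mkQ_surjective _ x
    exact (Submodule.Quotient.mk_eq_zero _).2 (Ideal.mul_mem_right _ _ ha)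
  let one : ∀ j : ℕᵒᵖᵒᵖ, P.obj j.unop := fun j => Submodule.Quotient.mk (p := D.obj j.unop) (1 : A)
  let K : ∀ j : ℕᵒᵖᵒᵖ, Submodule A (P.obj j.unop ⟶ W.X 0) := fun j =>
    LinearMap.ker (Linear.rightComp A (P.obj j.unop) (W.d 0 1))
  let z : ∀ j, K j →ₗ[A] ZΓ I W := fun j => zMap (hkill j) (one j)
  have hone : ∀ (j : ℕᵒᵖᵒᵖ) (x : P.obj j.unop), ∃ r : A, x = r • one j := fun j x => by
    obtain ⟨r, rfl⟩ := Submodule.mkQ_surjective _ x
    exact ⟨r, congrArg (Submodule.Quotient.mk) (mul_one r).symm⟩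
  choose val hval using fun j => exists_val cl hcl0 (hkill j) (one j)
  have hnat : ∀ (j j' : ℕᵒᵖᵒᵖ) (w : j ⟶ j') (f : K j), ∃ f' : K j', f'.1 = P.map w.unop ≫ f.1 ∧ z j' f' = z j f :=
    fun j j' w f => by
      refine ⟨⟨P.map w.unop ≫ f.1, ?_⟩, rfl, rfl⟩
      rw [LinearMap.mem_ker]
      change (P.map w.unop ≫ f.1) ≫ W.d 0 1 = 0
      rw [Category.assoc, show f.1 ≫ W.d 0 1 = 0 from f.2, comp_zero]
  let c : Limits.Cocone F :=
    { pt := ModuleCat.of A (ULift.{u + 1} (Γ.homology 0 : Type u))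
      ι :=
        { app := fun j => ModuleCat.ofHom (ULift.moduleEquiv.symm.toLinearMap ∘ₗ val j ∘ₗ
            Linear.rightComp A _ eX.inv)
          naturality := fun j j' w => by
            refine ModuleCat.hom_ext (LinearMap.ext fun t => ULift.ext _ _ ?_)
            obtain ⟨f, hf⟩ := cc_surjective (W := W) (P.obj j.unop) (t ≫ eX.inv)
            obtain ⟨f', hf', hz⟩ := hnat j j' w f
            change val j' (((DerivedCategory.singleFunctor (ModuleCat.{u} A) 0).map (P.map w.unop) ≫ t) ≫ eX.inv) =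
              val j (t ≫ eX.inv)
            rw [Category.assoc, ← hf, cocycleClass_comp W _ f f' hf', hval, hval, hz] } }
  have hbij : Function.Bijective (Limits.colimit.desc F c).hom := by
    constructor
    · rw [injective_iff_map_eq_zero]
      intro x hx
      obtain ⟨j, t, rfl⟩ := Limits.Concrete.colimit_exists_rep F x
      obtain ⟨f, hf⟩ := cc_surjective (W := W) (P.obj j.unop) (t ≫ eX.inv)
      have h1 : (ULift.moduleEquiv.symm.toLinearMap ∘ₗ val j ∘ₗ Linear.rightComp A _ eX.inv) t = 0 :=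
        (LinearMap.congr_fun (congrArg ModuleCat.Hom.hom (Limits.colimit.ι_desc c j)) t).symm.trans hx
      have h2 : val j (t ≫ eX.inv) = 0 := congrArg ULift.down h1
      rw [← hf, hval, hcl0] at h2
      obtain ⟨⟨y, m, hm⟩, hy⟩ := h2
      have hy' : W.d (-1) 0 y = f.1.hom (one j) := congrArg Subtype.val hy
      let j' : ℕᵒᵖᵒᵖ := Opposite.op (Opposite.op (max m j.unop.unop))
      let w : j ⟶ j' := (homOfLE (le_max_right m j.unop.unop : j.unop.unop ≤ max m j.unop.unop)).op.op
      obtain ⟨f', hf', -⟩ := hnat j j' w f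
      have h0 : cocycleClass W (P.obj j'.unop) f' = 0 := by
        change (Linear.homCongr A (singleIso _).symm (Iso.refl (DRing.toD W))) (cycleClass W _ f') = 0
        rw [LinearEquiv.map_eq_zero_iff, cycleClass_eq_zero_iff]
        refine ⟨ModuleCat.ofHom (Submodule.liftQ (D.obj j'.unop) (LinearMap.toSpanSingleton A _ y)
          fun a ha => hm a (Ideal.pow_le_pow_right (le_max_left _ _) ha)), ModuleCat.hom_ext (LinearMap.ext fun x => ?_)⟩
        obtain ⟨r, rfl⟩ := hone j' x
        rw [map_smul, map_smul, hf']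
        refine congrArg (r • ·) ?_
        change W.d (-1) 0 ((1 : A) • y) = f.1.hom (one j)
        rw [one_smul, hy']
      have h3 : (F.map w).hom t = 0 := by
        change (DerivedCategory.singleFunctor (ModuleCat.{u} A) 0).map (P.map w.unop) ≫ t = 0
        rw [← cancel_mono eX.inv, Category.assoc, ← hf, cocycleClass_comp W _ f f' hf', h0, zero_comp]
      rw [← Limits.colimit.w F w]
      change (Limits.colimit.ι F j').hom ((F.map w).hom t) = 0
      rw [h3, map_zero]
    · rintro ⟨y⟩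
      obtain ⟨⟨⟨x, k, hk⟩, hx⟩, rfl⟩ := hcls y
      let j : ℕᵒᵖᵒᵖ := Opposite.op (Opposite.op k)
      let g : P.obj j.unop →ₗ[A] W.X 0 := Submodule.liftQ (D.obj j.unop) (LinearMap.toSpanSingleton A _ x) hk
      let f : K j := ⟨ModuleCat.ofHom g, by
        rw [LinearMap.mem_ker]
        refine ModuleCat.hom_ext (LinearMap.ext fun v => ?_)
        obtain ⟨r, rfl⟩ := hone j v
        rw [map_smul]
        change r • W.d 0 1 ((1 : A) • x) = 0
        rw [one_smul, show W.d 0 1 x = 0 from congrArg Subtype.val hx, smul_zero]⟩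
      refine ⟨(Limits.colimit.ι F j).hom (cocycleClass W (P.obj j.unop) f ≫ eX.hom), ?_⟩
      refine (LinearMap.congr_fun (congrArg ModuleCat.Hom.hom (Limits.colimit.ι_desc c j)) _).trans
        (ULift.ext _ _ ?_)
      change val j ((cocycleClass W (P.obj j.unop) f ≫ eX.hom) ≫ eX.inv) = _
      rw [Category.assoc, Iso.hom_inv_id, Category.comp_id, hval]
      exact congrArg cl (Subtype.ext (Subtype.ext (one_smul A x)))
  exact ⟨LinearEquiv.ofBijective _ hbij ≪≫ₗ ULift.moduleEquiv⟩

end Groth.L04.RGamma
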