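import Groth.Agent.L04.RGamma.Complete
import Groth.Agent.L29.Dual.HomD

/-!
Torsion and complete objects of `D(A)` have the same orthogonal: Greenlees–May equivalence.
-/

set_option autoImplicit false
set_option backward.isDefEq.respectTransparency false
universe u

open CategoryTheory CategoryTheory.Limits CategoryTheory.Pretriangulated DRing

attribute [local instance] HasDerivedCategory.standard

noncomputable section

namespace Groth.L04.RGamma

variable {A : Type u} [CommRing A] (I : Ideal A)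

/-- Power torsion cohomology. -/
def IsTors (K : Dual.D A) : Prop := ∀ i : ℤ, LocCoh.IsPowerTorsion I (Dual.HD A K i)

/-- No morphism from torsion objects. -/
def VanT (X : Dual.D A) : Prop := ∀ T : Dual.D A, IsTors I T → ∀ a : T ⟶ X, a = 0

/-- No morphism to complete objects. -/
def VanC (X : Dual.D A) : Prop := ∀ P : Dual.D A, DRing.IsDerivedComplete I P → ∀ a : X ⟶ P, a = 0

theorem isTors_iff {K : Dual.D A} :
    IsTors I K ↔ ∀ (i : ℤ) (a : Dual.inD A A ⟶ K⟦i⟧), ∃ n : ℕ, ∀ r ∈ I ^ n, r • a = 0 := by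
  refine ⟨fun h i a => ?_, fun h i x => ?_⟩
  · obtain ⟨n, hn⟩ := h i (Groth.L29.HomD.evalShiftEquiv (W := K) i a)
    exact ⟨n, fun r hr => (Groth.L29.HomD.evalShiftEquiv (W := K) i).injective (by
      rw [map_smul, hn r hr, map_zero])⟩
  · obtain ⟨n, hn⟩ := h i ((Groth.L29.HomD.evalShiftEquiv (W := K) i).symm x)
    exact ⟨n, fun r hr => (Groth.L29.HomD.evalShiftEquiv (W := K) i).symm.injective (by
      rw [map_smul, hn r hr, map_zero])⟩

theorem IsTors.shift {K : Dual.D A} (h : IsTors I K) (k : ℤ) : IsTors I (K⟦k⟧) := by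
  rw [isTors_iff] at h ⊢
  intro i a
  let e : (K⟦k⟧)⟦i⟧ ≅ K⟦k + i⟧ := ((shiftFunctorAdd (Dual.D A) k i).app K).symm
  obtain ⟨n, hn⟩ := h (k + i) (a ≫ e.hom)
  refine ⟨n, fun r hr => ?_⟩
  rw [← cancel_mono e.hom, Linear.smul_comp, hn r hr, zero_comp]

theorem isComplete_shift {P : Dual.D A} (h : DRing.IsDerivedComplete I P) (k : ℤ) :
    DRing.IsDerivedComplete I (P⟦k⟧) := fun f hf n =>
  @Equiv.subsingleton _ _ (((shiftFunctorAdd (Dual.D A) k n).app P).symm).homToEquiv (h f hf (k + n))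

theorem smul_id_shift (r : A) (X : Dual.D A) (n : ℤ) : (r • 𝟙 X)⟦n⟧' = r • 𝟙 (X⟦n⟧) := by
  rw [Functor.map_smul, CategoryTheory.Functor.map_id]

/-- Morphisms to a shifted object are shifted morphisms. -/
theorem exists_shift_map {T X : Dual.D A} (a : T ⟶ X⟦(1 : ℤ)⟧) :
    ∃ (e : (T⟦(-1 : ℤ)⟧)⟦(1 : ℤ)⟧ ≅ T) (a' : T⟦(-1 : ℤ)⟧ ⟶ X), a = e.inv ≫ a'⟦(1 : ℤ)⟧' := by
  let e := (shiftEquiv' (Dual.D A) (-1) 1 (by norm_num : (-1 : ℤ) + 1 = 0)).unitIso.symm.app T
  obtain ⟨a', ha⟩ := (shiftFunctor (Dual.D A) (1 : ℤ)).map_surjective (e.hom ≫ a)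
  exact ⟨e, a', by rw [ha, Iso.inv_hom_id_assoc]⟩

/-- Morphisms from a shifted object are shifted morphisms. -/
theorem exists_shift_map' {P X : Dual.D A} (a : X⟦(1 : ℤ)⟧ ⟶ P) :
    ∃ (e : (P⟦(-1 : ℤ)⟧)⟦(1 : ℤ)⟧ ≅ P) (a' : X ⟶ P⟦(-1 : ℤ)⟧), a = a'⟦(1 : ℤ)⟧' ≫ e.hom := by
  let e := (shiftEquiv' (Dual.D A) (-1) 1 (by norm_num : (-1 : ℤ) + 1 = 0)).unitIso.symm.app P
  obtain ⟨a', ha⟩ := (shiftFunctor (Dual.D A) (1 : ℤ)).map_surjective (a ≫ e.inv)
  exact ⟨e, a', by rw [ha, Category.assoc, Iso.inv_hom_id, Category.comp_id]⟩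

theorem eq_zero_of_shift_vanT {X : Dual.D A} (h : VanT I X) {T : Dual.D A} (hT : IsTors I T)
    (a : T ⟶ X⟦(1 : ℤ)⟧) : a = 0 := by
  obtain ⟨e, a', rfl⟩ := exists_shift_map a
  rw [h _ (hT.shift I (-1)) a', Functor.map_zero, comp_zero]

theorem eq_zero_of_shift_vanC {X : Dual.D A} (h : VanC I X) {P : Dual.D A}
    (hP : DRing.IsDerivedComplete I P) (a : X⟦(1 : ℤ)⟧ ⟶ P) : a = 0 := by
  obtain ⟨e, a', rfl⟩ := exists_shift_map' a
  rw [h _ (isComplete_shift I hP (-1)) a', Functor.map_zero, zero_comp]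

/-- An object killed by powers of the generators. -/
def Killed (S : Set A) (X : Dual.D A) : Prop := ∀ f ∈ S, ∃ m : ℕ, f ^ m • 𝟙 X = 0

theorem exists_pow_kills {X : Dual.D A} {s : Finset A} (h : Killed (s : Set A) X) :
    ∃ n : ℕ, ∀ r ∈ Ideal.span (s : Set A) ^ n, r • 𝟙 X = 0 := by
  let 𝔞 : Ideal A := LinearMap.ker (LinearMap.toSpanSingleton A (X ⟶ X) (𝟙 X))
  have hle : Ideal.span (s : Set A) ≤ 𝔞.radical := Ideal.span_le.2 fun f hf => by
    obtain ⟨m, hm⟩ := h f hf
    exact ⟨m, hm⟩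
  obtain ⟨n, hn⟩ := Ideal.exists_pow_le_of_le_radical_of_fg hle ⟨s, rfl⟩
  exact ⟨n, fun r hr => hn hr⟩

theorem killed_isTors {X : Dual.D A} {n : ℕ} (h : ∀ r ∈ I ^ n, r • 𝟙 X = 0) : IsTors I X := by
  rw [isTors_iff]
  refine fun i a => ⟨n, fun r hr => ?_⟩
  rw [← Category.comp_id a, ← Linear.comp_smul, ← smul_id_shift, h r hr, Functor.map_zero, comp_zero]

theorem killed_isComplete {X : Dual.D A} {n : ℕ} (h : ∀ r ∈ I ^ n, r • 𝟙 X = 0) :
    DRing.IsDerivedComplete I X := fun f hf k => subsingleton_of_forall_eq 0 fun φ => by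
  obtain ⟨v, hv⟩ := (IsLocalization.map_units (Localization.Away f)
    (⟨f ^ n, n, rfl⟩ : Submonoid.powers f)).exists_right_inv
  let g : ModuleCat.of A (Localization.Away f) ⟶ ModuleCat.of A (Localization.Away f) :=
    ModuleCat.ofHom (LinearMap.mulLeft A v)
  have hg : f ^ n • g = 𝟙 _ := by
    refine ModuleCat.hom_ext (LinearMap.ext fun x => ?_)
    show f ^ n • (v * x) = x
    rw [Algebra.smul_def, ← mul_assoc, hv, one_mul]
  let G := (DerivedCategory.singleFunctor (ModuleCat.{u} A) 0).map g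
  have hG : f ^ n • G = 𝟙 _ := by rw [← Functor.map_smul, hg, CategoryTheory.Functor.map_id]
  calc φ = (f ^ n • G) ≫ φ := by rw [hG]; exact (Category.id_comp φ).symm
    _ = G ≫ φ ≫ (f ^ n • 𝟙 X)⟦k⟧' := by
      rw [Linear.smul_comp, smul_id_shift, Linear.comp_smul, Category.comp_id, Linear.comp_smul]
    _ = 0 := by rw [h _ (Ideal.pow_mem_pow hf n), Functor.map_zero, comp_zero, comp_zero]

variable [IsNoetherianRing A] [DRing.HasRgammaI I]

theorem isTors_RgammaI (K : Dual.D A) : IsTors I ((DRing.RgammaI I).obj K) :=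
  fun i => isPowerTorsion_HD_RgammaI I K i

theorem injective_comp_ε {T : Dual.D A} (hT : IsTors I T) (K : Dual.D A) (u v : T ⟶ (DRing.RgammaI I).obj K)
    (huv : u ≫ (DRing.RgammaIε I).app K = v ≫ (DRing.RgammaIε I).app K) : u = v := by
  haveI := isIso_ε_of_torsion I T hT
  haveI := isIso_ε_of_torsion I _ (isTors_RgammaI I K)
  haveI := isIso_RgammaI_map_ε I K
  have h1 := congrArg (DRing.RgammaI I).map huv
  rw [Functor.map_comp, Functor.map_comp, cancel_mono] at h1
  have hu := (DRing.RgammaIε I).naturality u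
  have hv := (DRing.RgammaIε I).naturality v
  rw [h1, hv] at hu
  simp only [Functor.id_map, cancel_epi] at hu
  exact hu.symm

theorem exists_comp_ε {T : Dual.D A} (hT : IsTors I T) (K : Dual.D A) (g : T ⟶ K) :
    ∃ u : T ⟶ (DRing.RgammaI I).obj K, u ≫ (DRing.RgammaIε I).app K = g := by
  haveI := isIso_ε_of_torsion I T hT
  refine ⟨inv ((DRing.RgammaIε I).app T) ≫ (DRing.RgammaI I).map g, ?_⟩
  rw [Category.assoc]
  erw [(DRing.RgammaIε I).naturality, IsIso.inv_hom_id_assoc]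
  rfl

theorem eq_zero_of_smul_surjective_tors {f : A} (hf : f ∈ I) {X : Dual.D A}
    (h : ∀ T, IsTors I T → ∀ a : T ⟶ X, ∃ b : T ⟶ X, f • b = a) : VanT I X := by
  intro T hT a
  let R := (DRing.RgammaI I).obj X
  have hR : IsTors I R := isTors_RgammaI I X
  obtain ⟨b, hb⟩ := h R hR ((DRing.RgammaIε I).app X)
  obtain ⟨b', hb'⟩ := exists_comp_ε I hR X b
  have h1 : f • b' = 𝟙 R := injective_comp_ε I hR X _ _ (by
    rw [Linear.smul_comp, hb', hb]; exact (Category.id_comp _).symm)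
  have hz : IsZero R := Groth.L04.DerComp.isZero_of_separating (fun _ : PUnit.{1} => R₁ A) isSeparating_regular R
    fun _ => subsingleton_shift_iff.1 (fun k => subsingleton_of_forall_eq 0 fun x => by
      obtain ⟨m, hm⟩ := (isTors_iff I).1 hR k x
      have key : ∀ j : ℕ, ∀ y : Dual.inD A A ⟶ R⟦k⟧, ∃ z, y = f ^ j • z := fun j => by
        induction j with
        | zero => exact fun y => ⟨y, by rw [pow_zero, one_smul]⟩
        | succ j ih =>
          intro y
          obtain ⟨z, rfl⟩ := ih y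
          refine ⟨z ≫ b'⟦k⟧', ?_⟩
          rw [pow_succ, mul_smul, ← Linear.comp_smul, ← Functor.map_smul, h1,
            CategoryTheory.Functor.map_id, Category.comp_id]
      have key2 : ∀ j : ℕ, ∀ y : Dual.inD A A ⟶ R⟦k⟧, f ^ j • y = 0 → y = 0 := fun j => by
        induction j with
        | zero => exact fun y hy => by rwa [pow_zero, one_smul] at hy
        | succ j ih =>
          intro y hy
          rw [pow_succ, mul_smul] at hy
          have h2 : f • y = 0 := ih _ hy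
          calc y = y ≫ (f • b')⟦k⟧' := by rw [h1, CategoryTheory.Functor.map_id, Category.comp_id]
            _ = (f • y) ≫ b'⟦k⟧' := by rw [Functor.map_smul, Linear.comp_smul, Linear.smul_comp]
            _ = 0 := by rw [h2, zero_comp]
      exact key2 m x (hm _ (Ideal.pow_mem_pow hf m)))
  obtain ⟨u, rfl⟩ := exists_comp_ε I hT X a
  rw [hz.eq_of_tgt u 0, zero_comp]

/-- Successive cones of multiplication by the generators. -/
theorem exists_killed (s : Finset A) (hs : (s : Set A) ⊆ I) (X : Dual.D A) :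
    ∃ X' : Dual.D A, Killed (s : Set A) X' ∧ (VanT I X → VanT I X') ∧ (VanC I X → VanC I X') ∧
      (VanT I X' → VanT I X) ∧ (VanC I X' → VanC I X) := by
  classical
  induction s using Finset.induction_on with
  | empty => exact ⟨X, fun f hf => absurd hf (by simp), id, id, id, id⟩
  | @insert f s _ ih =>
    obtain ⟨Y, hY, h1, h2, h3, h4⟩ := ih fun x hx => hs (Finset.mem_insert_of_mem hx)
    have hf : f ∈ I := hs (Finset.mem_insert_self f s)
    obtain ⟨Z, g, δ, hT⟩ := distinguished_cocone_triangle (f • 𝟙 Y)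
    have hz12 : f • g = 0 := by
      have := comp_distTriang_mor_zero₁₂ _ hT
      change (f • 𝟙 Y) ≫ g = 0 at this
      rwa [Linear.smul_comp, Category.id_comp] at this
    have hz31 : f • δ = 0 := by
      have := comp_distTriang_mor_zero₃₁ _ hT
      change δ ≫ (f • 𝟙 Y)⟦(1 : ℤ)⟧' = 0 at this
      rwa [smul_id_shift, Linear.comp_smul, Category.comp_id] at this
    have hsq : ∀ r : A, r • g = 0 → r • δ = 0 → (r * r) • 𝟙 Z = 0 := fun r hrg hrδ => by
      obtain ⟨b, hb⟩ := Triangle.coyoneda_exact₃ _ hT (r • 𝟙 Z) (by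
        change (r • 𝟙 Z) ≫ δ = 0
        rw [Linear.smul_comp, Category.id_comp, hrδ])
      change r • 𝟙 Z = b ≫ g at hb
      rw [mul_smul, hb, ← Linear.comp_smul, hrg, comp_zero]
    refine ⟨Z, fun x hx => ?_, fun h T hT' a => ?_, fun h P hP a => ?_,
      fun h => h3 (eq_zero_of_smul_surjective_tors I hf fun T hT' a => ?_),
      fun h => h4 fun P hP a => ?_⟩
    · rw [Finset.coe_insert] at hx
      rcases hx with rfl | hx
      · exact ⟨2, by rw [pow_two]; exact hsq x hz12 hz31⟩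
      · obtain ⟨m, hm⟩ := hY x hx
        refine ⟨m + m, ?_⟩
        rw [pow_add]
        refine hsq _ ?_ ?_
        · rw [← Category.id_comp g, ← Linear.smul_comp, hm, zero_comp]
        · rw [← Category.comp_id δ, ← Linear.comp_smul, ← smul_id_shift, hm, Functor.map_zero, comp_zero]
    · obtain ⟨b, rfl⟩ := Triangle.coyoneda_exact₃ _ hT a (eq_zero_of_shift_vanT I (h1 h) hT' _)
      rw [h1 h T hT' b]
      exact zero_comp
    · obtain ⟨b, rfl⟩ := Triangle.yoneda_exact₃ _ hT a (h2 h P hP _)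
      rw [eq_zero_of_shift_vanC I (h2 h) hP b]
      exact comp_zero
    · obtain ⟨b, hb⟩ := Triangle.coyoneda_exact₂ _ hT a (h T hT' (a ≫ g))
      change a = b ≫ (f • 𝟙 Y) at hb
      refine ⟨b, ?_⟩
      rw [hb, Linear.comp_smul]
      exact congrArg (f • ·) (Category.comp_id b).symm
    · refine eq_zero_of_complete (f := f) (fun n => hP f hf n) (fun a => ?_) a
      have hZ : ∀ c : Z⟦(-1 : ℤ)⟧ ⟶ P, c = 0 := fun c => by
        let e := (shiftEquiv' (Dual.D A) (-1) 1 (by norm_num : (-1 : ℤ) + 1 = 0)).unitIso.app Z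
        have := h _ (isComplete_shift I hP 1) (e.hom ≫ c⟦(1 : ℤ)⟧')
        apply (shiftFunctor (Dual.D A) (1 : ℤ)).map_injective
        rw [Functor.map_zero, ← cancel_epi e.hom, this, comp_zero]
      obtain ⟨b, hb⟩ := Triangle.yoneda_exact₂ _ (inv_rot_of_distTriang _ hT) a (hZ _)
      refine ⟨b, ?_⟩
      refine Eq.trans ?_ hb.symm
      change f • b = (f • 𝟙 Y) ≫ b
      rw [Linear.smul_comp, Category.id_comp]

theorem vanC_of_vanT (hI : I.FG) {X : Dual.D A} (h : VanT I X) : VanC I X := by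
  obtain ⟨s, hs⟩ := hI
  obtain ⟨X', hk, h1, -, -, h4⟩ := exists_killed I s (hs ▸ Submodule.subset_span) X
  obtain ⟨n, hn⟩ := exists_pow_kills hk
  have h0 : IsZero X' := (IsZero.iff_id_eq_zero _).2
    (h1 h X' (killed_isTors I (n := n) fun r hr => hn r (hs.symm ▸ hr)) (𝟙 X'))
  exact h4 fun P _ a => h0.eq_of_src a 0

theorem vanT_of_vanC (hI : I.FG) {X : Dual.D A} (h : VanC I X) : VanT I X := by
  obtain ⟨s, hs⟩ := hI
  obtain ⟨X', hk, -, h2, h3, -⟩ := exists_killed I s (hs ▸ Submodule.subset_span) X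
  obtain ⟨n, hn⟩ := exists_pow_kills hk
  have h0 : IsZero X' := (IsZero.iff_id_eq_zero _).2
    (h2 h X' (killed_isComplete I (n := n) fun r hr => hn r (hs.symm ▸ hr)) (𝟙 X'))
  exact h3 fun T _ a => h0.eq_of_tgt a 0

/-- `RΓ_I K ⟶ K` becomes an isomorphism after completion. -/
theorem bijective_ε_comp (hI : I.FG) (K : Dual.D A) {P : Dual.D A} (hP : DRing.IsDerivedComplete I P) :
    Function.Bijective fun a : K ⟶ P => (DRing.RgammaIε I).app K ≫ a := by
  obtain ⟨C, g, δ, hT⟩ := distinguished_cocone_triangle ((DRing.RgammaIε I).app K)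
  have h12 := comp_distTriang_mor_zero₁₂ _ hT
  have hC : VanC I C := vanC_of_vanT I hI fun T hT' a => by
    have h31 := comp_distTriang_mor_zero₃₁ _ hT
    change δ ≫ ((DRing.RgammaIε I).app K)⟦(1 : ℤ)⟧' = 0 at h31
    have hd : a ≫ δ = 0 := by
      obtain ⟨e, a', ha⟩ := exists_shift_map (a ≫ δ)
      have hz : a' = 0 := injective_comp_ε I (hT'.shift I (-1)) K _ _ (by
        rw [zero_comp]
        apply (shiftFunctor (Dual.D A) (1 : ℤ)).map_injective
        rw [Functor.map_zero, ← cancel_epi e.inv, comp_zero]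
        exact (congrArg (e.inv ≫ ·) (Functor.map_comp _ _ _)).trans
          ((reassoc_of% ha) _ |>.symm.trans (by rw [h31, comp_zero])))
      rw [ha, hz, Functor.map_zero, comp_zero]
    obtain ⟨b, rfl⟩ := Triangle.coyoneda_exact₃ _ hT a hd
    obtain ⟨u, rfl⟩ := exists_comp_ε I hT' K b
    change (u ≫ (DRing.RgammaIε I).app K) ≫ g = 0
    rw [Category.assoc, show (DRing.RgammaIε I).app K ≫ g = 0 from h12, comp_zero]
  refine ⟨fun a b hab => sub_eq_zero.1 ?_, fun b => ?_⟩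
  · obtain ⟨c, hc⟩ := Triangle.yoneda_exact₂ _ hT (a - b) (by
      change (DRing.RgammaIε I).app K ≫ (a - b) = 0
      rw [Preadditive.comp_sub]; exact sub_eq_zero.2 hab)
    rw [hc, hC P hP c]
    exact comp_zero
  · have hZ : ∀ c : C⟦(-1 : ℤ)⟧ ⟶ P, c = 0 := fun c => by
      let e := (shiftEquiv' (Dual.D A) (-1) 1 (by norm_num : (-1 : ℤ) + 1 = 0)).unitIso.app C
      have := hC _ (isComplete_shift I hP 1) (e.hom ≫ c⟦(1 : ℤ)⟧')
      apply (shiftFunctor (Dual.D A) (1 : ℤ)).map_injective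
      rw [Functor.map_zero, ← cancel_epi e.hom, this, comp_zero]
    obtain ⟨c, hc⟩ := Triangle.yoneda_exact₂ _ (inv_rot_of_distTriang _ hT) b (hZ _)
    exact ⟨c, hc.symm⟩

/-- `K ⟶ K^` becomes an isomorphism after `RΓ_I`. -/
theorem bijective_comp_toCompletion (hI : I.FG) [DRing.HasDerivedCompletion I] (K : Dual.D A) {T : Dual.D A}
    (hT' : IsTors I T) : Function.Bijective fun a : T ⟶ K => a ≫ DRing.toDerivedCompletion I K := by
  obtain ⟨C, g, δ, hT⟩ := distinguished_cocone_triangle (DRing.toDerivedCompletion I K)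
  let η := DRing.toDerivedCompletion I K
  have h12 := comp_distTriang_mor_zero₁₂ _ hT
  have h31 : δ ≫ η⟦(1 : ℤ)⟧' = 0 := comp_distTriang_mor_zero₃₁ _ hT
  let Kc := (DRing.derivedCompletion I).obj K
  have hex : ∀ P : Dual.D A, DRing.IsDerivedComplete I P → ∀ c : K ⟶ P, ∃ c' : Kc.obj ⟶ P, η ≫ c' = c :=
    fun P hP c => by
      refine ⟨(((DRing.derivedCompletionAdj I).homEquiv K ⟨P, hP⟩).symm c).hom, ?_⟩
      exact ((DRing.derivedCompletionAdj I).homEquiv_unit K ⟨P, hP⟩ _).symm.trans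
        (Equiv.apply_symm_apply _ _)
  have hinj : ∀ P : Dual.D A, DRing.IsDerivedComplete I P → ∀ c : Kc.obj ⟶ P, η ≫ c = 0 → c = 0 :=
    fun P hP c hc => by
      let c' : Kc ⟶ (⟨P, hP⟩ : DRing.DComp I) := ObjectProperty.homMk c
      let z : Kc ⟶ (⟨P, hP⟩ : DRing.DComp I) := ObjectProperty.homMk 0
      have : c' = z := ((DRing.derivedCompletionAdj I).homEquiv K ⟨P, hP⟩).injective (by
        rw [(DRing.derivedCompletionAdj I).homEquiv_unit, (DRing.derivedCompletionAdj I).homEquiv_unit]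
        exact hc.trans comp_zero.symm)
      exact congrArg InducedCategory.Hom.hom this
  have hC : VanT I C := vanT_of_vanC I hI fun P hP a => by
    have h1 : g ≫ a = 0 := hinj P hP _ (by
      rw [← Category.assoc, show η ≫ g = 0 from h12, zero_comp])
    obtain ⟨c, rfl⟩ := Triangle.yoneda_exact₃ _ hT a h1
    obtain ⟨e, c', rfl⟩ := exists_shift_map' c
    obtain ⟨c'', rfl⟩ := hex _ (isComplete_shift I hP (-1)) c'
    change δ ≫ (η ≫ c'')⟦(1 : ℤ)⟧' ≫ e.hom = 0
    rw [Functor.map_comp, Category.assoc, ← Category.assoc δ, h31, zero_comp]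
  refine ⟨fun a b hab => sub_eq_zero.1 ?_, fun b => ?_⟩
  · obtain ⟨c, hc⟩ := Triangle.coyoneda_exact₂ _ (inv_rot_of_distTriang _ hT) (a - b) (by
      change (a - b) ≫ η = 0
      rw [Preadditive.sub_comp]; exact sub_eq_zero.2 hab)
    let e := (shiftEquiv' (Dual.D A) (-1) 1 (by norm_num : (-1 : ℤ) + 1 = 0)).unitIso.app C
    have h0 : c = 0 := by
      apply (shiftFunctor (Dual.D A) (1 : ℤ)).map_injective
      have := hC _ (hT'.shift I 1) (c⟦(1 : ℤ)⟧' ≫ e.inv)
      rw [Functor.map_zero, ← cancel_mono e.inv, zero_comp]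
      exact this
    rw [hc, h0]
    exact zero_comp
  · obtain ⟨c, hc⟩ := Triangle.coyoneda_exact₂ _ hT b (hC T hT' _)
    exact ⟨c, hc.symm⟩

end Groth.L04.RGamma
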