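import Groth.Agent.L04.RGamma.GM

/-!
Derived completeness through the cohomology modules.
-/

set_option autoImplicit false
set_option backward.isDefEq.respectTransparency false
universe u v

open CategoryTheory CategoryTheory.Limits DRing

attribute [local instance] HasDerivedCategory.standard

noncomputable section

namespace Groth.L04.RGamma

open Groth.L04.DerComp (theta Tz theta_apply tz_iff_of_equiv)

variable {A : Type u} [CommRing A]

/-- Multiplication by `f`. -/
def smulEnd (f : A) (M : Type v) [AddCommGroup M] [Module A M] : AddMonoid.End M :=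
  AddMonoidHom.mk' (fun x => f • x) fun x y => smul_add f x y

theorem smulEnd_apply (f : A) (M : Type v) [AddCommGroup M] [Module A M] (x : M) : smulEnd f M x = f • x := rfl

/-- `f`-completeness of a module: every sequence `y` is uniquely `x i - f x (i+1)`. -/
def TzMod (f : A) (M : Type v) [AddCommGroup M] [Module A M] : Prop := Tz (smulEnd f M)

section Module

variable {f : A} {M N : Type v} [AddCommGroup M] [Module A M] [AddCommGroup N] [Module A N]

theorem tzMod_iff : TzMod f M ↔ ∀ y : ℕ → M, ∃! x : ℕ → M, ∀ i, x i - f • x (i + 1) = y i := by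
  refine (Function.bijective_iff_existsUnique _).trans (forall_congr' fun y => existsUnique_congr fun x => ?_)
  exact funext_iff

theorem TzMod.exists_seq (h : TzMod f M) (y : ℕ → M) : ∃ x : ℕ → M, ∀ i, x i = y i + f • x (i + 1) := by
  obtain ⟨x, hx⟩ := h.2 y
  exact ⟨x, fun i => sub_eq_iff_eq_add.1 (congrFun hx i)⟩

theorem TzMod.seq_eq_zero (h : TzMod f M) {x : ℕ → M} (hx : ∀ i, f • x (i + 1) = x i) : x = 0 :=
  Groth.L04.DerComp.Tz.eq_zero_of_seq h hx

theorem TzMod.congr (e : M ≃ₗ[A] N) : TzMod f M ↔ TzMod f N :=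
  tz_iff_of_equiv e.toAddEquiv _ _ fun x => e.map_smul f x

theorem TzMod.of_subsingleton [Subsingleton M] : TzMod f M :=
  ⟨fun _ _ _ => Subsingleton.elim _ _, fun y => ⟨y, Subsingleton.elim _ _⟩⟩

theorem TzMod.of_pow_smul_eq_zero {n : ℕ} (h : ∀ x : M, f ^ n • x = 0) : TzMod f M := by
  have hz : ∀ x : ℕ → M, (∀ i, f • x (i + 1) = x i) → x = 0 := fun x hx => funext fun i => by
    have : ∀ j, x i = f ^ j • x (i + j) := fun j => by
      induction j with
      | zero => rw [pow_zero, one_smul, add_zero]
      | succ j ih => rw [ih, ← hx (i + j), ← mul_smul, ← pow_succ, add_assoc]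
    rw [this n, h]; rfl
  refine ⟨fun x x' hxx => sub_eq_zero.1 (hz (x - x') fun i => ?_), fun y =>
    ⟨fun i => ∑ j ∈ Finset.range n, f ^ j • y (i + j), funext fun i => ?_⟩⟩
  · have := congrFun hxx i
    simp only [theta_apply, smulEnd_apply] at this
    simp only [Pi.sub_apply, smul_sub]
    rw [sub_eq_sub_iff_sub_eq_sub] at this
    exact this.symm
  · simp only [theta_apply, smulEnd_apply, Finset.smul_sum, ← mul_smul, ← pow_succ']
    have h1 : ∀ j, y (i + 1 + j) = y (i + (j + 1)) := fun j => by rw [add_right_comm, add_assoc]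
    simp only [h1]
    rw [← Finset.sum_sub_distrib, Finset.sum_range_sub' (fun j => f ^ j • y (i + j)), h]
    simp

theorem TzMod.ker (u : M →ₗ[A] N) (hM : TzMod f M) (hN : TzMod f N) : TzMod f (LinearMap.ker u) := by
  refine ⟨fun x x' h => funext fun i => Subtype.ext (congrFun (hM.1 (a₁ := fun i => (x i).1) (a₂ := fun i => (x' i).1)
    (funext fun i => congrArg Subtype.val (congrFun h i))) i), fun y => ?_⟩
  obtain ⟨x, hx⟩ := hM.2 fun i => (y i).1
  have h0 : (fun i => u (x i)) = 0 := hN.1 (funext fun i => by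
    have := congrArg u (congrFun hx i)
    simp only [theta_apply, smulEnd_apply, map_sub, map_smul] at this ⊢
    exact this.trans ((LinearMap.mem_ker.1 (y i).2).trans (by simp)))
  exact ⟨fun i => ⟨x i, congrFun h0 i⟩, funext fun i => Subtype.ext (congrFun hx i)⟩

theorem TzMod.coker (u : M →ₗ[A] N) (hM : TzMod f M) (hN : TzMod f N) : TzMod f (N ⧸ LinearMap.range u) := by
  refine ⟨fun x x' h => ?_, fun y => ?_⟩
  · choose a ha using fun i => Submodule.Quotient.mk_surjective _ (x i - x' i)
    have h0 : ∀ i, ∃ b, u b = a i - f • a (i + 1) := fun i => by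
      refine (Submodule.Quotient.mk_eq_zero (LinearMap.range u)).1 ?_
      rw [Submodule.Quotient.mk_sub, Submodule.Quotient.mk_smul, ha, ha, smul_sub, sub_sub_sub_comm]
      exact sub_eq_zero.2 (congrFun h i)
    choose b hb using h0
    obtain ⟨c, hc⟩ := hM.2 b
    have ha' : a = fun i => u (c i) := hN.1 (funext fun i => by
      have := congrArg u (congrFun hc i)
      simp only [theta_apply, smulEnd_apply, map_sub, map_smul] at this ⊢
      rw [this, hb])
    refine funext fun i => sub_eq_zero.1 ?_
    rw [← ha i, ha']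
    exact (Submodule.Quotient.mk_eq_zero _).2 ⟨_, rfl⟩
  · choose a ha using fun i => Submodule.Quotient.mk_surjective _ (y i)
    obtain ⟨x, hx⟩ := hN.2 a
    exact ⟨fun i => Submodule.Quotient.mk (x i), funext fun i => by rw [← ha i, ← hx]; rfl⟩

theorem TzMod.extension (M₁ : Submodule A M) (h1 : TzMod f M₁) (h3 : TzMod f (M ⧸ M₁)) : TzMod f M := by
  refine ⟨fun x x' h => ?_, fun y => ?_⟩
  · have h3' := h3.1 (a₁ := fun i => Submodule.Quotient.mk (x i)) (a₂ := fun i => Submodule.Quotient.mk (x' i))
      (funext fun i => congrArg (fun m => (Submodule.Quotient.mk m : M ⧸ M₁)) (congrFun h i))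
    let d : ℕ → M₁ := fun i => ⟨x i - x' i, (Submodule.Quotient.eq M₁).1 (congrFun h3' i)⟩
    have hd : d = 0 := h1.seq_eq_zero fun i => Subtype.ext (by
      have := congrFun h i
      simp only [theta_apply, smulEnd_apply] at this
      show f • (x (i + 1) - x' (i + 1)) = x i - x' i
      rw [smul_sub]
      exact (sub_eq_sub_iff_sub_eq_sub.1 this).symm)
    exact funext fun i => sub_eq_zero.1 (congrArg Subtype.val (congrFun hd i))
  · obtain ⟨x, hx⟩ := h3.2 fun i => Submodule.Quotient.mk (y i)
    choose a ha using fun i => Submodule.Quotient.mk_surjective _ (x i)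
    have hmem : ∀ i, y i - (a i - f • a (i + 1)) ∈ M₁ := fun i => by
      refine (Submodule.Quotient.eq M₁).1 ?_
      rw [Submodule.Quotient.mk_sub, Submodule.Quotient.mk_smul, ha, ha]
      exact (congrFun hx i).symm
    obtain ⟨c, hc⟩ := h1.2 fun i => ⟨_, hmem i⟩
    refine ⟨fun i => a i + (c i).1, funext fun i => ?_⟩
    have := congrArg Subtype.val (congrFun hc i)
    simp only [theta_apply, smulEnd_apply] at this ⊢
    rw [AddSubgroupClass.coe_sub, SetLike.val_smul] at this
    rw [smul_add, add_sub_add_comm, this]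
    abel

theorem TzMod.mul {g : A} (h : TzMod f M) : TzMod (g * f) M := by
  have h2 : smulEnd (g * f) M = smulEnd g M * smulEnd f M := AddMonoidHom.ext fun x => mul_smul g f x
  rw [TzMod, h2]
  exact Groth.L04.DerComp.Tz.mul (AddMonoidHom.ext fun x => smul_comm g f x) h

theorem TzMod.add {g : A} (h : TzMod f M) (h' : TzMod g M) : TzMod (f + g) M := by
  have h2 : smulEnd (f + g) M = smulEnd f M + smulEnd g M := AddMonoidHom.ext fun x => add_smul f g x
  rw [TzMod, h2]
  exact Groth.L04.DerComp.Tz.add (AddMonoidHom.ext fun x => smul_comm f g x) h h'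

theorem TzMod.zero : TzMod (0 : A) M := TzMod.of_pow_smul_eq_zero (n := 1) fun x => by rw [pow_one, zero_smul]

/-- The elements for which a module is complete form an ideal. -/
def tzIdeal (A : Type u) [CommRing A] (M : Type v) [AddCommGroup M] [Module A M] : Ideal A where
  carrier := {f | TzMod f M}
  zero_mem' := TzMod.zero
  add_mem' := TzMod.add
  smul_mem' _ _ h := TzMod.mul h

end Module

theorem subsingleton_away_iff_tzMod (f : A) (K : Dual.D A) :
    (∀ n : ℤ, Subsingleton (Dual.inD A (Localization.Away f) ⟶ K⟦n⟧)) ↔ ∀ i : ℤ, TzMod f (Dual.HD A K i) := by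
  rw [subsingleton_away_iff]
  have key : ∀ n : ℤ, Tz (fEnd f (((S₀ A).obj (R₁ A))⟦n⟧) K) ↔ TzMod f (Dual.HD A K (-n)) := fun n => by
    let a := (shiftEquiv' (Dual.D A) n (-n) (add_neg_cancel n)).toAdjunction
    let φ : (((S₀ A).obj (R₁ A))⟦n⟧ ⟶ K) ≃+ (Dual.inD A A ⟶ K⟦-n⟧) :=
      { a.homEquiv _ _ with
        map_add' := fun x y => by
          show a.homEquiv _ _ (x + y) = a.homEquiv _ _ x + a.homEquiv _ _ y
          rw [a.homEquiv_unit, a.homEquiv_unit, a.homEquiv_unit]
          exact (congrArg (fun t => a.unit.app ((S₀ A).obj (R₁ A)) ≫ t)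
            ((shiftFunctor (Dual.D A) (-n)).map_add (f := x) (g := y))).trans (Preadditive.comp_add _ _ _ _ _ _) }
    refine tz_iff_of_equiv (φ.trans (Groth.L29.HomD.evalShiftEquiv (W := K) (-n)).toAddEquiv) _ _ fun x => ?_
    show Groth.L29.HomD.evalShiftEquiv (W := K) (-n) (a.homEquiv _ _ (f • x)) =
      f • Groth.L29.HomD.evalShiftEquiv (W := K) (-n) (a.homEquiv _ _ x)
    rw [← map_smul, a.homEquiv_unit, a.homEquiv_unit]
    refine congrArg _ ?_
    exact (congrArg (fun t => a.unit.app (Dual.inD A A) ≫ t)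
      ((shiftFunctor (Dual.D A) (-n)).map_smul f x)).trans (Linear.comp_smul _ _ _ _ _ _)
  exact ⟨fun h i => by have := (key (-i)).1 (h (-i)); rwa [neg_neg] at this, fun h n => (key n).2 (h (-n))⟩

theorem isDerivedComplete_iff (I : Ideal A) (K : Dual.D A) :
    DRing.IsDerivedComplete I K ↔ ∀ f ∈ I, ∀ i : ℤ, TzMod f (Dual.HD A K i) :=
  forall₂_congr fun f _ => subsingleton_away_iff_tzMod f K

theorem subsingleton_HD_inD {M : Type u} [AddCommGroup M] [Module A M] {i : ℤ} (hi : i ≠ 0) :
    Subsingleton (Dual.HD A (Dual.inD A M) i) :=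
  ModuleCat.subsingleton_of_isZero (IsZero.of_iso
    (HomologicalComplex.isZero_single_obj_homology (ComplexShape.up ℤ) 0 (ModuleCat.of A M) i hi)
    ((DerivedCategory.homologyFunctor _ i).mapIso ((DerivedCategory.singleFunctorIsoCompQ _ 0).app (ModuleCat.of A M)) ≪≫
      (DerivedCategory.homologyFunctorFactors _ i).app _))

theorem isDerivedComplete_inD_iff (I : Ideal A) (M : Type u) [AddCommGroup M] [Module A M] :
    DRing.IsDerivedComplete I (Dual.inD A M) ↔ ∀ f ∈ I, TzMod f M := by
  rw [isDerivedComplete_iff]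
  refine forall₂_congr fun f _ => ⟨fun h => ?_, fun h i => ?_⟩
  · exact (TzMod.congr ((DerivedCategory.singleFunctorCompHomologyFunctorIso (ModuleCat.{u} A) 0).app
      (ModuleCat.of A M)).toLinearEquiv).1 (h 0)
  · by_cases hi : i = 0
    · subst hi
      exact (TzMod.congr ((DerivedCategory.singleFunctorCompHomologyFunctorIso (ModuleCat.{u} A) 0).app
        (ModuleCat.of A M)).toLinearEquiv).2 h
    · haveI := subsingleton_HD_inD (A := A) (M := M) hi
      exact TzMod.of_subsingleton

end Groth.L04.RGamma
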