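import Groth.Agent.L04.RGamma.CompleteModule
import Groth.Prelude.Def_DDual2

/-!
Completeness and restriction of scalars; objects on which an element acts invertibly.
-/

set_option autoImplicit false
set_option backward.isDefEq.respectTransparency false
universe u

open CategoryTheory CategoryTheory.Limits DRing

attribute [local instance] HasDerivedCategory.standard

noncomputable section

namespace Groth.L04.RGamma

open Groth.L04.DerComp (Tz tz_iff_of_equiv)

variable {A B : Type u} [CommRing A] [CommRing B] (φ : A →+* B)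

/-- Cohomology of the restriction. -/
theorem nonempty_HD_restrictD (L : Dual.D B) (i : ℤ) :
    ∃ e : Dual.HD A ((DRing.restrictD φ).obj L) i ≃+ Dual.HD B L i, ∀ (a : A) x, e (a • x) = φ a • e x := by
  let R := ModuleCat.restrictScalars.{u} φ
  let K := DerivedCategory.Q.objPreimage L
  let H := DerivedCategory.homologyFunctor (ModuleCat.{u} A) i
  let i₁ : H.obj ((DRing.restrictD φ).obj L) ≅ R.obj (K.homology i) :=
    H.mapIso ((DRing.restrictD φ).mapIso (DerivedCategory.Q.objObjPreimageIso L).symm ≪≫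
      R.mapDerivedCategoryFactors.app K) ≪≫
    (DerivedCategory.homologyFunctorFactors (ModuleCat.{u} A) i).app ((R.mapHomologicalComplex (ComplexShape.up ℤ)).obj K) ≪≫
    (K.sc i).mapHomologyIso R
  let i₂ : K.homology i ≅ (DerivedCategory.homologyFunctor (ModuleCat.{u} B) i).obj L :=
    ((DerivedCategory.homologyFunctorFactors (ModuleCat.{u} B) i).app K).symm ≪≫
      (DerivedCategory.homologyFunctor (ModuleCat.{u} B) i).mapIso (DerivedCategory.Q.objObjPreimageIso L)
  let e := (i₁ ≪≫ R.mapIso i₂).toLinearEquiv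
  exact ⟨e.toAddEquiv, fun a x => e.map_smul a x⟩

theorem tzMod_restrictD_iff (f : A) (L : Dual.D B) (i : ℤ) :
    TzMod f (Dual.HD A ((DRing.restrictD φ).obj L) i) ↔ TzMod (φ f) (Dual.HD B L i) := by
  obtain ⟨e, he⟩ := nonempty_HD_restrictD φ L i
  exact tz_iff_of_equiv e _ _ fun x => he f x

/-- `f • 𝟙` is invertible when `f` acts invertibly on cohomology. -/
theorem isIso_smul_id {f : A} {X : Dual.D A}
    (h : ∀ i : ℤ, Function.Bijective fun x : Dual.HD A X i => f • x) : IsIso (f • 𝟙 X) := by
  refine Groth.L04.DerComp.isIso_of_separating (fun _ : PUnit.{1} => R₁ A) isSeparating_regular _ fun _ n => ?_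
  let a := (shiftEquiv' (Dual.D A) n (-n) (add_neg_cancel n)).toAdjunction
  let ev := Groth.L29.HomD.evalShiftEquiv (W := X) (-n)
  have hc : (fun g : ((S₀ A).obj (R₁ A))⟦n⟧ ⟶ X => g ≫ (f • 𝟙 X)) =
      ((a.homEquiv _ _).trans ev.toEquiv).symm ∘ (fun x => f • x) ∘ ((a.homEquiv _ _).trans ev.toEquiv) := by
    funext g
    refine ((Equiv.symm_apply_eq _).2 ?_).symm
    show f • ev (a.homEquiv _ _ g) = ev (a.homEquiv _ _ (g ≫ (f • 𝟙 X)))
    rw [← map_smul, Linear.comp_smul, Category.comp_id, a.homEquiv_unit, a.homEquiv_unit]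
    exact congrArg ev ((congrArg (fun t => a.unit.app ((S₀ A).obj (R₁ A)) ≫ t)
      ((shiftFunctor (Dual.D A) (-n)).map_smul f g)).trans (Linear.comp_smul _ _ _ _ _ _)).symm
  rw [hc]
  exact (Equiv.bijective _).comp ((h (-n)).comp (Equiv.bijective _))

/-- Nothing with an invertible action of `f` maps to a complete object. -/
theorem eq_zero_of_bijective_smul {f : A} {K X : Dual.D A}
    (hK : ∀ n : ℤ, Subsingleton (Dual.inD A (Localization.Away f) ⟶ K⟦n⟧))
    (h : ∀ i : ℤ, Function.Bijective fun x : Dual.HD A X i => f • x) (a : X ⟶ K) : a = 0 := by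
  haveI := isIso_smul_id h
  refine eq_zero_of_complete hK (fun b => ⟨inv (f • 𝟙 X) ≫ b, ?_⟩) a
  change f • (inv (f • 𝟙 X) ≫ b) = b
  have h2 : f • (inv (f • 𝟙 X)) = 𝟙 X := by
    rw [← Category.id_comp (inv (f • 𝟙 X)), ← Linear.smul_comp]
    exact IsIso.hom_inv_id _
  rw [← Linear.smul_comp, h2, Category.id_comp]

end Groth.L04.RGamma
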