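import Groth.Agent.L04.RGamma.CompleteSeparated
import Mathlib.RingTheory.PowerSeries.Basic
import Mathlib.RingTheory.PowerSeries.Ideal
import Mathlib.RingTheory.AdicCompletion.AsTensorProduct
import Mathlib.RingTheory.AdicCompletion.Completeness
import Mathlib.RingTheory.Filtration

/-!
For a module complete for `g`, the action of power series evaluated at `g`; the finiteness
criterion for derived complete modules over a Noetherian ring.
-/

set_option autoImplicit false
set_option maxHeartbeats 400000
universe u v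

noncomputable section

namespace Groth.L04.RGamma

open PowerSeries

variable {R : Type u} [CommRing R] {M : Type v} [AddCommGroup M] [Module R M] {g : R}

/-- The unique solution of `x i = y i + g • x (i + 1)`. -/
def TzMod.sol (h : TzMod g M) (y : ℕ → M) : ℕ → M := (h.exists_seq y).choose

theorem TzMod.sol_spec (h : TzMod g M) (y : ℕ → M) (i : ℕ) : h.sol y i = y i + g • h.sol y (i + 1) :=
  (h.exists_seq y).choose_spec i

theorem TzMod.sol_unique (h : TzMod g M) {y x : ℕ → M} (hx : ∀ i, x i = y i + g • x (i + 1)) : x = h.sol y :=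
  (tzMod_iff.1 h y).unique (fun i => sub_eq_iff_eq_add.2 (hx i)) fun i => sub_eq_iff_eq_add.2 (h.sol_spec y i)

/-- `p(g) • m`. -/
def TzMod.evalAt (h : TzMod g M) (p : R⟦X⟧) (m : M) : M := h.sol (fun i => coeff i p • m) 0

theorem TzMod.sol_add (h : TzMod g M) (y y' : ℕ → M) : h.sol (y + y') = h.sol y + h.sol y' :=
  (h.sol_unique fun i => by
    simp only [Pi.add_apply]
    conv_lhs => rw [h.sol_spec y i, h.sol_spec y' i]
    rw [smul_add, add_add_add_comm]).symm

theorem TzMod.sol_smul (h : TzMod g M) (r : R) (y : ℕ → M) : h.sol (r • y) = r • h.sol y :=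
  (h.sol_unique fun i => by
    simp only [Pi.smul_apply]
    conv_lhs => rw [h.sol_spec y i]
    rw [smul_add, smul_comm r g]).symm

theorem TzMod.evalAt_rec (h : TzMod g M) (p : R⟦X⟧) (m : M) :
    h.evalAt p m = constantCoeff p • m + g • h.evalAt (mk fun i => coeff (i + 1) p) m := by
  have h1 : (fun i => h.sol (fun i => coeff i p • m) (i + 1)) =
      h.sol (fun i => coeff i (mk fun i => coeff (i + 1) p) • m) := by
    refine h.sol_unique fun i => ?_
    rw [coeff_mk]
    exact h.sol_spec _ (i + 1)
  show h.sol _ 0 = _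
  rw [h.sol_spec, coeff_zero_eq_constantCoeff_apply]
  exact congrArg (fun t => constantCoeff p • m + g • t) (congrFun h1 0)

theorem TzMod.evalAt_add_left (h : TzMod g M) (p q : R⟦X⟧) (m : M) :
    h.evalAt (p + q) m = h.evalAt p m + h.evalAt q m := by
  unfold TzMod.evalAt
  rw [← Pi.add_apply, ← h.sol_add]
  refine congrArg (fun y => h.sol y 0) (funext fun i => ?_)
  rw [Pi.add_apply, map_add, add_smul]

theorem TzMod.evalAt_zero_left (h : TzMod g M) (m : M) : h.evalAt 0 m = 0 := by
  have := h.evalAt_add_left 0 0 m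
  rw [add_zero] at this
  exact left_eq_add.1 this

theorem TzMod.evalAt_add_right (h : TzMod g M) (p : R⟦X⟧) (m m' : M) :
    h.evalAt p (m + m') = h.evalAt p m + h.evalAt p m' := by
  unfold TzMod.evalAt
  rw [← Pi.add_apply, ← h.sol_add]
  exact congrArg (fun y => h.sol y 0) (funext fun i => smul_add _ _ _)

theorem TzMod.evalAt_smul_right (h : TzMod g M) (p : R⟦X⟧) (r : R) (m : M) :
    h.evalAt p (r • m) = r • h.evalAt p m := by
  unfold TzMod.evalAt
  rw [← Pi.smul_apply, ← h.sol_smul]
  exact congrArg (fun y => h.sol y 0) (funext fun i => smul_comm _ _ _)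

theorem TzMod.evalAt_C_mul (h : TzMod g M) (r : R) (p : R⟦X⟧) (m : M) :
    h.evalAt (C r * p) m = r • h.evalAt p m := by
  unfold TzMod.evalAt
  rw [← Pi.smul_apply, ← h.sol_smul]
  refine congrArg (fun y => h.sol y 0) (funext fun i => ?_)
  rw [coeff_C_mul, Pi.smul_apply, mul_smul]

theorem TzMod.evalAt_X_mul (h : TzMod g M) (p : R⟦X⟧) (m : M) :
    h.evalAt (X * p) m = g • h.evalAt p m := by
  rw [h.evalAt_rec]
  have h1 : (mk fun i => coeff (i + 1) (X * p)) = p := by
    ext i
    rw [coeff_mk, coeff_succ_X_mul]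
  rw [h1, map_mul, constantCoeff_X, zero_mul, zero_smul, zero_add]

theorem TzMod.evalAt_C (h : TzMod g M) (r : R) (m : M) : h.evalAt (C r) m = r • m := by
  rw [h.evalAt_rec]
  have h1 : (mk fun i => coeff (i + 1) (C r)) = 0 := by
    ext i
    simp [coeff_C]
  rw [h1, h.evalAt_zero_left, smul_zero, add_zero, constantCoeff_C]

theorem TzMod.evalAt_mul (h : TzMod g M) (p q : R⟦X⟧) (m : M) :
    h.evalAt (p * q) m = h.evalAt p (h.evalAt q m) := by
  let sh : R⟦X⟧ → R⟦X⟧ := fun p => mk fun i => coeff (i + 1) p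
  have hsh : ∀ i p j, coeff j (sh^[i] p) = coeff (j + i) p := fun i => by
    induction i with
    | zero => intro p j; rfl
    | succ i ih =>
      intro p j
      rw [Function.iterate_succ_apply, ih, coeff_mk, add_assoc]
  have key : (fun i => h.evalAt (sh^[i] p * q) m) = h.sol (fun i => coeff i p • h.evalAt q m) := by
    refine h.sol_unique fun i => ?_
    conv_lhs => rw [eq_X_mul_shift_add_const (sh^[i] p)]
    rw [add_mul, h.evalAt_add_left, mul_assoc, h.evalAt_X_mul, h.evalAt_C_mul, add_comm,
      Function.iterate_succ_apply']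
    refine congrArg (fun t => t • h.evalAt q m + _) ?_
    rw [← coeff_zero_eq_constantCoeff_apply, hsh, zero_add]
  exact congrFun key 0

/-- The ring map `R⟦X⟧ → End M`, `X ↦ g`. -/
def TzMod.seriesHom (h : TzMod g M) : R⟦X⟧ →+* Module.End R M where
  toFun p :=
    { toFun := h.evalAt p
      map_add' := h.evalAt_add_right p
      map_smul' := h.evalAt_smul_right p }
  map_one' := LinearMap.ext fun m => by
    show h.evalAt 1 m = m
    rw [← map_one C, h.evalAt_C, one_smul]
  map_mul' p q := LinearMap.ext (h.evalAt_mul p q)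
  map_zero' := LinearMap.ext h.evalAt_zero_left
  map_add' p q := LinearMap.ext (h.evalAt_add_left p q)

theorem TzMod.seriesHom_C (h : TzMod g M) (r : R) (m : M) : h.seriesHom (C r) m = r • m := h.evalAt_C r m

theorem TzMod.seriesHom_X (h : TzMod g M) (m : M) : h.seriesHom X m = g • m := by
  show h.evalAt X m = _
  rw [← mul_one (X : R⟦X⟧), h.evalAt_X_mul, ← map_one C, h.evalAt_C, one_smul]

theorem tzMod_powerSeries_C {f : R} (h : TzMod f R) : TzMod (C f : R⟦X⟧) R⟦X⟧ := by
  let φ : R⟦X⟧ ≃+ (ℕ → R) :=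
    { toFun := fun p i => coeff i p
      invFun := fun a => mk a
      left_inv := fun p => by ext; simp
      right_inv := fun a => funext fun i => coeff_mk i a
      map_add' := fun p q => funext fun i => map_add _ p q }
  refine (Groth.L04.DerComp.tz_iff_of_equiv φ _ _ fun p => ?_).2 (Groth.L04.DerComp.Tz.piMap h)
  exact funext fun i => coeff_C_mul i p f

theorem tzMod_pi {P : Type u} [CommRing P] {t : P} {ι : Type*} (h : TzMod t P) : TzMod t (ι → P) := by
  refine tzMod_iff.2 fun y => ?_
  refine ⟨fun i j => h.sol (fun i => y i j) i, fun i => funext fun j => ?_, fun x hx => ?_⟩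
  · exact sub_eq_iff_eq_add.2 (h.sol_spec (fun i => y i j) i)
  · funext i j
    exact congrFun (h.sol_unique (x := fun i => x i j) fun i => sub_eq_iff_eq_add.1 (congrFun (hx i) j)) i

variable {A : Type u} [CommRing A] {N : Type u} [AddCommGroup N] [Module A N]

theorem exists_series_ring [IsNoetherianRing A] (s : Finset A) (hs : ∀ f ∈ s, TzMod f N) :
    ∃ (P : Type u) (_ : CommRing P) (_ : IsNoetherianRing P) (ι : A →+* P) (_ : Module P N) (t : A → P),
      (∀ (a : A) (m : N), ι a • m = a • m) ∧
      ∀ f ∈ s, (∀ m : N, t f • m = f • m) ∧ TzMod (t f) P := by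
  classical
  induction s using Finset.induction_on with
  | empty => exact ⟨A, inferInstance, inferInstance, RingHom.id A, inferInstance, id, fun _ _ => rfl, by simp⟩
  | @insert f s hfs ih =>
    obtain ⟨P, iP, iN, ι, iM, t, hι, ht⟩ := ih fun g hg => hs g (Finset.mem_insert_of_mem hg)
    have hf : TzMod (ι f) N := by
      have : smulEnd (ι f) N = smulEnd f N := AddMonoidHom.ext (hι f)
      rw [TzMod, this]
      exact hs f (Finset.mem_insert_self f s)
    let φ : P⟦X⟧ →+* Module.End P N := hf.seriesHom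
    refine ⟨P⟦X⟧, inferInstance, inferInstance, C.comp ι, Module.compHom N φ,
      fun g => if g = f then X else C (t g), fun a m => ?_, fun g hg => ?_⟩
    · exact (hf.seriesHom_C (ι a) m).trans (hι a m)
    · by_cases hgf : g = f
      · subst hgf
        simp only [if_true]
        exact ⟨fun m => (hf.seriesHom_X m).trans (hι g m),
          tzMod_of_isAdicComplete (Ideal.span {(X : P⟦X⟧)}) (Ideal.mem_span_singleton_self _)⟩
      · obtain ⟨h1, h2⟩ := ht g (Finset.mem_of_mem_insert_of_ne hg hgf)
        simp only [if_neg hgf]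
        exact ⟨fun m => (hf.seriesHom_C (t g) m).trans (h1 m), tzMod_powerSeries_C h2⟩

theorem isHausdorff_of_finite_quotient [IsNoetherianRing A] (s : Finset A) (hs : ∀ f ∈ s, TzMod f N)
    (hfin : Module.Finite A (N ⧸ Ideal.span (s : Set A) • (⊤ : Submodule A N))) :
    IsHausdorff (Ideal.span (s : Set A)) N := by
  classical
  obtain ⟨P, iP, iN, ι, iM, t, hι, ht⟩ := exists_series_ring s hs
  letI : Algebra A P := ι.toAlgebra
  haveI : IsScalarTower A P N := ⟨fun a p m => by
    rw [Algebra.smul_def, mul_smul]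
    exact hι a (p • m)⟩
  have htN : ∀ f ∈ s, TzMod (t f) N := fun f hf => by
    have : smulEnd (t f) N = smulEnd f N := AddMonoidHom.ext ((ht f hf).1)
    rw [TzMod, this]
    exact hs f hf
  obtain ⟨k, w, hw⟩ := Module.Finite.exists_fin' A (N ⧸ Ideal.span (s : Set A) • (⊤ : Submodule A N))
  choose x hx using fun i : Fin k => Submodule.mkQ_surjective _ (w (Pi.single i (1 : A)))
  let u : (Fin k → P) →ₗ[P] N := Fintype.linearCombination P x
  let Q := N ⧸ LinearMap.range u
  have hQs : Subsingleton Q := by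
    refine subsingleton_of_span_smul_top_eq_top (s.image t) Q ?_ ?_
    · intro q hq
      obtain ⟨f, hf, rfl⟩ := Finset.mem_image.1 hq
      exact TzMod.coker u (tzMod_pi (ht f hf).2) (htN f hf)
    · refine Submodule.eq_top_iff'.2 fun q => ?_
      obtain ⟨m, rfl⟩ := Submodule.mkQ_surjective (LinearMap.range u) q
      obtain ⟨c, hc⟩ := hw (Submodule.mkQ _ m)
      have h1 : m - ∑ i, c i • x i ∈ Ideal.span (id '' (s : Set A)) • (⊤ : Submodule A N) := by
        rw [Set.image_id, ← Submodule.Quotient.mk_eq_zero, ← Submodule.mkQ_apply, map_sub, sub_eq_zero,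
          ← hc, map_sum, pi_eq_sum_univ' c, map_sum]
        exact Finset.sum_congr rfl fun i _ => by simp [hx, Pi.single_apply]
      obtain ⟨y, hy⟩ := exists_sum_of_mem_span_smul_top s id h1
      rw [sub_eq_iff_eq_add] at hy
      have h2 : Submodule.mkQ (LinearMap.range u) (∑ i, c i • x i) = 0 :=
        (Submodule.Quotient.mk_eq_zero _).2 ⟨fun i => algebraMap A P (c i), by
          simp [u, Fintype.linearCombination_apply]⟩
      rw [hy, map_add, h2, add_zero, map_sum]
      refine Submodule.sum_mem _ fun f hf => ?_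
      show Submodule.mkQ (LinearMap.range u) (f • y f) ∈ _
      rw [← (ht f hf).1, map_smul]
      exact Submodule.smul_mem_smul (Ideal.subset_span (Finset.mem_image_of_mem t hf)) Submodule.mem_top
  haveI : Module.Finite P N := Module.Finite.of_surjective u
    (LinearMap.range_eq_top.1 (Submodule.Quotient.subsingleton_iff.1 hQs))
  let J : Ideal P := Ideal.span ((s.image t : Finset P) : Set P)
  have hJ : J ≤ Ideal.jacobson ⊥ := fun q hq => by
    have hq' : J ≤ tzIdeal P P := Ideal.span_le.2 fun q hq => by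
      obtain ⟨f, hf, rfl⟩ := Finset.mem_image.1 hq
      exact (ht f hf).2
    refine Ideal.mem_jacobson_bot.2 fun y => ?_
    obtain ⟨z, hz⟩ := (hq' (Ideal.mul_mem_right (-y) J hq)).bijective_one_sub.2 1
    refine IsUnit.of_mul_eq_one z ?_
    calc (q * y + 1) * z = z - (q * -y) * z := by ring
      _ = 1 := hz
  have hIJ : ∀ n, ∀ a ∈ Ideal.span (s : Set A) ^ n, ∃ j ∈ J ^ n, ∀ m : N, a • m = j • m := fun n => by
    induction n with
    | zero => exact fun a _ => ⟨algebraMap A P a, by simp, fun m => (hι a m).symm⟩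
    | succ n ih =>
      intro a ha
      rw [pow_succ] at ha
      refine Submodule.mul_induction_on ha (fun b hb c hc => ?_) ?_
      · obtain ⟨j, hj, hjm⟩ := ih b hb
        obtain ⟨d, rfl⟩ := Submodule.mem_span_finset'.1 hc
        refine ⟨j * ∑ f : s, algebraMap A P (d f) * t f.1, ?_, fun m => ?_⟩
        · rw [pow_succ]
          exact Ideal.mul_mem_mul hj (Submodule.sum_mem _ fun f _ =>
            Ideal.mul_mem_left _ _ (Ideal.subset_span (Finset.mem_image_of_mem t f.2)))
        · rw [mul_smul, mul_smul, hjm, Finset.sum_smul, Finset.sum_smul]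
          refine congrArg (j • ·) (Finset.sum_congr rfl fun f _ => ?_)
          rw [smul_eq_mul, mul_smul, mul_smul, (ht f.1 f.2).1]
          exact (hι (d f) _).symm
      · rintro b c ⟨j, hj, hjm⟩ ⟨j', hj', hjm'⟩
        exact ⟨j + j', Submodule.add_mem _ hj hj', fun m => by rw [add_smul, add_smul, hjm, hjm']⟩
  refine ⟨fun m hm => ?_⟩
  have h0 : ∀ n, m ∈ (J ^ n • ⊤ : Submodule P N) := fun n => by
    refine Submodule.smul_induction_on (SModEq.zero.1 (hm n)) (fun a ha z _ => ?_) fun _ _ => Submodule.add_mem _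
    obtain ⟨j, hj, hjz⟩ := hIJ n a ha
    rw [hjz]
    exact Submodule.smul_mem_smul hj Submodule.mem_top
  exact (Submodule.mem_bot P).1 ((Ideal.iInf_pow_smul_eq_bot_of_le_jacobson J hJ).le
    ((Submodule.mem_iInf _).2 h0))

theorem finite_adicCompletion_of_finite_quotient (I : Ideal A) [IsPrecomplete I N]
    (hfin : Module.Finite A (N ⧸ I • (⊤ : Submodule A N))) :
    Module.Finite (AdicCompletion I A) (AdicCompletion I N) := by
  classical
  obtain ⟨k, w, hw⟩ := Module.Finite.exists_fin' A (N ⧸ I • (⊤ : Submodule A N))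
  obtain ⟨u, hu⟩ := Module.projective_lifting_property (I • (⊤ : Submodule A N)).mkQ w (Submodule.mkQ_surjective _)
  have htop : LinearMap.range u ⊔ I • ⊤ = ⊤ := Submodule.eq_top_iff'.2 fun m => by
    obtain ⟨c, hc⟩ := hw (Submodule.mkQ _ m)
    refine Submodule.mem_sup.2 ⟨u c, ⟨c, rfl⟩, m - u c, ?_, add_sub_cancel _ _⟩
    rw [← Submodule.Quotient.mk_eq_zero, ← Submodule.mkQ_apply, map_sub, sub_eq_zero, ← hc, ← hu]
    rfl
  have step : ∀ (n : ℕ) (r : N), r ∈ (I ^ n • ⊤ : Submodule A N) →
      ∃ d ∈ (I ^ n • ⊤ : Submodule A (Fin k → A)), r - u d ∈ (I ^ (n + 1) • ⊤ : Submodule A N) := fun n r hr => by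
    rw [← htop, Submodule.smul_sup, ← mul_smul, ← pow_succ, LinearMap.range_eq_map, ← Submodule.map_smul''] at hr
    obtain ⟨_, ⟨d, hd, rfl⟩, e, he, rfl⟩ := Submodule.mem_sup.1 hr
    exact ⟨d, hd, by rwa [add_sub_cancel_left]⟩
  have hsur : Function.Surjective (AdicCompletion.map I u) := fun y => by
    obtain ⟨m, rfl⟩ := AdicCompletion.of_surjective I N y
    choose d hd hd' using step
    let S : ∀ n : ℕ, {c : Fin k → A // m - u c ∈ (I ^ n • ⊤ : Submodule A N)} := fun n =>
      Nat.rec ⟨0, by simp⟩ (fun n c => ⟨c.1 + d n (m - u c.1) c.2, by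
        rw [map_add, ← sub_sub]; exact hd' n _ c.2⟩) n
    have hS : ∀ n, (S n).1 ≡ (S (n + 1)).1 [SMOD (I ^ n • ⊤ : Submodule A (Fin k → A))] := fun n => by
      rw [SModEq.sub_mem]
      show (S n).1 - ((S n).1 + _) ∈ _
      rw [sub_add_cancel_left, Submodule.neg_mem_iff]
      exact hd n _ _
    refine ⟨AdicCompletion.mk I _ (AdicCompletion.AdicCauchySequence.mk I _ (fun n => (S n).1) hS),
      AdicCompletion.ext fun n => ?_⟩
    show Submodule.Quotient.mk (u (S n).1) = Submodule.Quotient.mk m
    exact ((Submodule.Quotient.eq _).2 (S n).2).symm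
  haveI : Module.Finite (AdicCompletion I A) (AdicCompletion I (Fin k → A)) :=
    Module.Finite.of_surjective _ (AdicCompletion.ofTensorProduct_surjective_of_finite I (Fin k → A))
  exact Module.Finite.of_surjective (AdicCompletion.map I u) hsur

end Groth.L04.RGamma
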