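import Groth.Agent.L04.RGamma.CompleteRestrict
import Groth.Agent.L10.DTen.Adic.Devissage
import Groth.Agent.L10.KFlat.Resolution
import Groth.Prelude.Def_DDual2
import Mathlib.CategoryTheory.Triangulated.Yoneda
import Mathlib.RingTheory.Flat.Basic
import Mathlib.Algebra.Homology.HomologicalComplexAbelian
import Mathlib.Algebra.Homology.HomologySequence

/-!
A derived complete object with vanishing derived reduction modulo the ideal vanishes.
-/

set_option autoImplicit false
set_option maxHeartbeats 800000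
set_option backward.defeqAttrib.useBackward true
set_option backward.isDefEq.respectTransparency false
set_option backward.isDefEq.respectTransparency.types false
universe u

open CategoryTheory CategoryTheory.Limits MonoidalCategory CochainComplex CategoryTheory.Pretriangulated

attribute [local instance] HasDerivedCategory.standard

noncomputable section

namespace Groth.L04.RGamma

variable {A : Type u} [CommRing A]

/-- `N ⊗ -` on complexes. -/
abbrev lT (N : ModuleCat.{u} A) : DRing.Cx A ⥤ DRing.Cx A :=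
  (tensorLeft N).mapHomologicalComplex (ComplexShape.up ℤ)

/-- the degree zero comparison -/
def lTIso (N : ModuleCat.{u} A) :
    lT N ≅ tensorLeft ((HomologicalComplex.single (ModuleCat.{u} A) (ComplexShape.up ℤ) 0).obj N : DRing.Cx A) :=
  (Functor.rightUnitor (lT N)).symm ≪≫
    Functor.isoWhiskerLeft (lT N) (CategoryTheory.shiftFunctorZero' (DRing.Cx A) (-0 : ℤ) neg_zero).symm ≪≫
    Groth.L10.Adic.singleTensorIso N 0

theorem quasiIso_lT (N : ModuleCat.{u} A) {P Q : DRing.Cx A} (α : P ⟶ Q) [QuasiIso α]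
    (hP : DRing.IsKFlat A P) (hQ : DRing.IsKFlat A Q) : QuasiIso ((lT N).map α) := by
  haveI := Groth.L10.KFlat.quasiIso_whiskerLeft α hP hQ
    ((HomologicalComplex.single (ModuleCat.{u} A) (ComplexShape.up ℤ) 0).obj N)
  exact quasiIso_of_arrow_mk_iso _ _ (Arrow.isoMk ((lTIso N).app P).symm ((lTIso N).app Q).symm
    ((lTIso N).inv.naturality α).symm)

/-- `x ↦ x ⊗ 1` -/
def canQ (I : Ideal A) : 𝟭 (ModuleCat.{u} A) ⟶ tensorRight (ModuleCat.of A (A ⧸ I)) where
  app X := ModuleCat.ofHom ((TensorProduct.mk A X (A ⧸ I)).flip 1)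
  naturality _ _ f := ModuleCat.hom_ext (LinearMap.ext fun _ => rfl)

theorem bijective_lTensor_canQ (I : Ideal A) {N : ModuleCat.{u} A} (hN : ∀ a ∈ I, ∀ n : N, a • n = 0)
    (X : ModuleCat.{u} A) :
    Function.Bijective (LinearMap.lTensor N ((TensorProduct.mk A X (A ⧸ I)).flip 1)) := by
  let β : N →ₗ[A] (A ⧸ I) →ₗ[A] N := LinearMap.flip (Submodule.liftQ I (LinearMap.lsmul A N)
    fun a ha => LinearMap.ext fun n => hN a ha n)
  let g : TensorProduct A N (TensorProduct A X (A ⧸ I)) →ₗ[A] TensorProduct A N X :=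
    ((TensorProduct.lift β).rTensor X).comp
      (((TensorProduct.assoc A N (A ⧸ I) X).symm.toLinearMap).comp
        ((TensorProduct.comm A X (A ⧸ I)).toLinearMap.lTensor N))
  refine Function.bijective_iff_has_inverse.2 ⟨g, fun z => ?_, fun z => ?_⟩
  · induction z using TensorProduct.induction_on with
    | zero => simp
    | tmul n x =>
      show ((1 : A) • n) ⊗ₜ[A] x = n ⊗ₜ[A] x
      rw [one_smul]
    | add a b ha hb => rw [map_add, map_add, ha, hb]
  · induction z using TensorProduct.induction_on with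
    | zero => simp
    | add a b ha hb => rw [map_add, map_add, ha, hb]
    | tmul n w =>
      induction w using TensorProduct.induction_on with
      | zero => simp
      | add a b ha hb => rw [TensorProduct.tmul_add, map_add, map_add, ha, hb]
      | tmul x q =>
        obtain ⟨a, rfl⟩ := Submodule.Quotient.mk_surjective I q
        show (a • n) ⊗ₜ[A] (x ⊗ₜ[A] (1 : A ⧸ I)) = n ⊗ₜ[A] (x ⊗ₜ[A] Submodule.Quotient.mk a)
        rw [TensorProduct.smul_tmul, ← TensorProduct.tmul_smul]
        refine congrArg (fun t => n ⊗ₜ[A] (x ⊗ₜ[A] t)) ?_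
        show a • (Submodule.Quotient.mk (1 : A) : A ⧸ I) = _
        rw [← Submodule.Quotient.mk_smul, smul_eq_mul, mul_one]

/-- the unit in complexes -/
abbrev canCx (I : Ideal A) (X : DRing.Cx A) :
    X ⟶ ((tensorRight (ModuleCat.of A (A ⧸ I))).mapHomologicalComplex (ComplexShape.up ℤ)).obj X where
  f i := (canQ I).app (X.X i)
  comm' i j _ := ((canQ I).naturality (X.d i j)).symm

theorem canCx_naturality (I : Ideal A) {X Y : DRing.Cx A} (f : X ⟶ Y) :
    f ≫ canCx I Y =
      canCx I X ≫ ((tensorRight (ModuleCat.of A (A ⧸ I))).mapHomologicalComplex (ComplexShape.up ℤ)).map f :=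
  HomologicalComplex.hom_ext _ _ fun i => (canQ I).naturality (f.f i)

/-- If the derived reduction vanishes, the unit is zero in the derived category. -/
theorem Qh_map_canCx_eq_zero (I : Ideal A) [DRing.HasLTensor A (ModuleCat.of A (A ⧸ I))] (X : DRing.Cx A)
    (h0 : IsZero ((DRing.LTensor A (ModuleCat.of A (A ⧸ I))).obj
      (DerivedCategory.Qh.obj ((HomotopyCategory.quotient _ _).obj X)))) :
    DerivedCategory.Qh.map ((HomotopyCategory.quotient _ _).map (canCx I X)) = 0 := by
  let M := ModuleCat.of A (A ⧸ I)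
  haveI : (DRing.LTensor A M).IsRightKanExtension
      ((DRing.tensorKh A M).totalLeftDerivedCounit DerivedCategory.Qh
        (HomotopyCategory.quasiIso (ModuleCat.{u} A) (ComplexShape.up ℤ))) :=
    Functor.IsLeftDerivedFunctor.isRightKanExtension _ _
      (HomotopyCategory.quasiIso (ModuleCat.{u} A) (ComplexShape.up ℤ))
  let β : DerivedCategory.Qh ⋙ 𝟭 (Dual.D A) ⟶ DRing.tensorKh A M :=
    { app := fun Y => DerivedCategory.Qh.map ((HomotopyCategory.quotient _ _).map (canCx I Y.as))
      naturality := fun Y Y' f => by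
        obtain ⟨f, rfl⟩ := (HomotopyCategory.quotient _ _).map_surjective (X := Y.as) (Y := Y'.as) f
        have h := congrArg (fun g => DerivedCategory.Qh.map ((HomotopyCategory.quotient _ _).map g))
          (canCx_naturality I f)
        simp only [Functor.map_comp] at h
        exact h }
  let α := (DRing.tensorKh A M).totalLeftDerivedCounit DerivedCategory.Qh
    (HomotopyCategory.quasiIso (ModuleCat.{u} A) (ComplexShape.up ℤ))
  let σ := (DRing.LTensor A M).liftOfIsRightKanExtension α (𝟭 _) β
  have hσ := (DRing.LTensor A M).liftOfIsRightKanExtension_fac_app α (𝟭 _) β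
    ((HomotopyCategory.quotient _ _).obj X)
  change σ.app _ ≫ _ = β.app _ at hσ
  exact hσ.symm.trans ((congrArg (· ≫ _) (h0.eq_of_tgt (σ.app _) 0)).trans zero_comp)

/-- Vanishing in the derived category, read on a K-flat complex. -/
theorem exists_homotopy_of_map_eq_zero {X Y : DRing.Cx A} (g : X ⟶ Y)
    (h : DerivedCategory.Qh.map ((HomotopyCategory.quotient _ _).map g) = 0) :
    ∃ (Z : DRing.Cx A) (s : Z ⟶ X), DRing.IsKFlat A Z ∧ QuasiIso s ∧ Nonempty (Homotopy (s ≫ g) 0) := by
  rw [← DerivedCategory.Qh.map_zero, MorphismProperty.map_eq_iff_precomp DerivedCategory.Qh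
    (HomotopyCategory.quasiIso (ModuleCat.{u} A) (ComplexShape.up ℤ))] at h
  obtain ⟨Z, s, hs, he⟩ := h
  obtain ⟨Z, rfl⟩ := HomotopyCategory.quotient_obj_surjective Z
  obtain ⟨s, rfl⟩ := (HomotopyCategory.quotient _ _).map_surjective s
  rw [HomotopyCategory.quotient_map_mem_quasiIso_iff, HomologicalComplex.mem_quasiIso_iff] at hs
  rw [comp_zero, ← Functor.map_comp, ← (HomotopyCategory.quotient _ _).map_zero] at he
  exact ⟨_, (Groth.L10.KFlat.r A).app Z ≫ s, Groth.L10.KFlat.isKFlat_R Z, inferInstance,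
    ⟨(Homotopy.ofEq (Category.assoc _ _ _)).trans
      (((HomotopyCategory.homotopyOfEq _ _ he).compLeft _).trans (Homotopy.ofEq comp_zero))⟩⟩

theorem acyclic_lT_of_killed (I : Ideal A) [DRing.HasLTensor A (ModuleCat.of A (A ⧸ I))]
    {X : DRing.Cx A} (hX : DRing.IsKFlat A X)
    (h0 : IsZero ((DRing.LTensor A (ModuleCat.of A (A ⧸ I))).obj
      (DerivedCategory.Qh.obj ((HomotopyCategory.quotient _ _).obj X))))
    (N : ModuleCat.{u} A) (hN : ∀ a ∈ I, ∀ n : N, a • n = 0) (i : ℤ) :
    IsZero (((lT N).obj X).homology i) := by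
  obtain ⟨Z, s, hZ, hs, ⟨H⟩⟩ := exists_homotopy_of_map_eq_zero _ (Qh_map_canCx_eq_zero I X h0)
  haveI := hs
  haveI := quasiIso_lT N s hZ hX
  haveI : ∀ j, IsIso (((lT N).map (canCx I X)).f j) := fun j =>
    (ConcreteCategory.isIso_iff_bijective _).2 (bijective_lTensor_canQ I hN (X.X j))
  haveI := HomologicalComplex.Hom.isIso_of_components ((lT N).map (canCx I X))
  have he := (((tensorLeft N).mapHomotopy H).trans (Homotopy.ofEq ((lT N).map_zero _ _))).homologyMap_eq i
  rw [show ((tensorLeft N).mapHomologicalComplex (ComplexShape.up ℤ)).map (s ≫ canCx I X) =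
    (lT N).map s ≫ (lT N).map (canCx I X) from Functor.map_comp _ _ _,
    HomologicalComplex.homologyMap_comp, HomologicalComplex.homologyMap_zero] at he
  rw [IsZero.iff_id_eq_zero, ← cancel_epi (HomologicalComplex.homologyMap ((lT N).map s) i),
    ← cancel_mono (HomologicalComplex.homologyMap ((lT N).map (canCx I X)) i), Category.comp_id, comp_zero,
    zero_comp]
  exact he

/-- `u ⊗ X` -/
abbrev lTMap {N N' : ModuleCat.{u} A} (v : N ⟶ N') (X : DRing.Cx A) : (lT N).obj X ⟶ (lT N').obj X :=
  (NatTrans.mapHomologicalComplex ((curriedTensor (ModuleCat.{u} A)).map v) (ComplexShape.up ℤ)).app X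

theorem shortExact_lT {X : DRing.Cx A} (hX : DRing.TermwiseFlat X) {N₁ N₂ N₃ : ModuleCat.{u} A}
    (v : N₁ ⟶ N₂) (w : N₂ ⟶ N₃) (hv : Function.Injective v.hom) (hw : Function.Surjective w.hom)
    (he : Function.Exact v.hom w.hom) :
    ∃ h : lTMap v X ≫ lTMap w X = 0, (ShortComplex.mk _ _ h).ShortExact := by
  have hex : ∀ i, Function.Exact (v.hom.rTensor (X.X i)) (w.hom.rTensor (X.X i)) := fun i =>
    rTensor_exact (X.X i) he hw
  refine ⟨HomologicalComplex.hom_ext _ _ fun i => ModuleCat.hom_ext (LinearMap.ext fun z =>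
    (hex i).apply_apply_eq_zero z), HomologicalComplex.shortExact_of_degreewise_shortExact _ fun i => ?_⟩
  haveI : Module.Flat A (X.X i) := hX i
  exact
    { exact := (ShortComplex.moduleCat_exact_iff _).2 fun z hz => (hex i z).1 hz
      mono_f := (ModuleCat.mono_iff_injective _).2
        (Module.Flat.rTensor_preserves_injective_linearMap (M := X.X i) v.hom hv)
      epi_g := (ModuleCat.epi_iff_surjective _).2 (LinearMap.rTensor_surjective (X.X i) hw) }

theorem quasiIso_lTMap_smul {X : DRing.Cx A} (hX : DRing.TermwiseFlat X) (f : A) (N : ModuleCat.{u} A)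
    (hk : ∀ i, IsZero (((lT (ModuleCat.of A (LinearMap.ker (f • LinearMap.id : N →ₗ[A] N)))).obj X).homology i))
    (hc : ∀ i, IsZero (((lT (ModuleCat.of A (N ⧸ LinearMap.range (f • LinearMap.id : N →ₗ[A] N)))).obj X).homology i)) :
    QuasiIso (lTMap (ModuleCat.ofHom (f • LinearMap.id : N →ₗ[A] N)) X) := by
  let φ : N →ₗ[A] N := f • LinearMap.id
  let R := ModuleCat.of A (LinearMap.range φ)
  let p : N ⟶ R := ModuleCat.ofHom φ.rangeRestrict
  let j : R ⟶ N := ModuleCat.ofHom (LinearMap.range φ).subtype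
  obtain ⟨h1, s1⟩ := shortExact_lT hX (ModuleCat.ofHom (LinearMap.ker φ).subtype) p
    Subtype.val_injective φ.surjective_rangeRestrict (fun x => ⟨fun hx => ⟨⟨x, congrArg Subtype.val hx⟩, rfl⟩,
      fun ⟨y, hy⟩ => hy ▸ Subtype.ext y.2⟩)
  obtain ⟨h2, s2⟩ := shortExact_lT hX j (ModuleCat.ofHom (LinearMap.range φ).mkQ) Subtype.val_injective
    (Submodule.mkQ_surjective _) (LinearMap.exact_subtype_mkQ _)
  haveI : QuasiIso (lTMap p X) := (quasiIso_iff _).2 fun i => (quasiIsoAt_iff_isIso_homologyMap _ _).2 (by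
    haveI : Mono (HomologicalComplex.homologyMap (lTMap p X) i) :=
      (s1.homology_exact₂ i).mono_g ((hk i).eq_of_src _ _)
    haveI : Epi (HomologicalComplex.homologyMap (lTMap p X) i) :=
      (s1.homology_exact₃ i (i + 1) rfl).epi_f ((hk (i + 1)).eq_of_tgt _ _)
    exact isIso_of_mono_of_epi _)
  haveI : QuasiIso (lTMap j X) := (quasiIso_iff _).2 fun i => (quasiIsoAt_iff_isIso_homologyMap _ _).2 (by
    haveI : Mono (HomologicalComplex.homologyMap (lTMap j X) i) :=
      (s2.homology_exact₁ (i - 1) i (sub_add_cancel i 1)).mono_g ((hc (i - 1)).eq_of_src _ _)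
    haveI : Epi (HomologicalComplex.homologyMap (lTMap j X) i) :=
      (s2.homology_exact₂ i).epi_f ((hc i).eq_of_tgt _ _)
    exact isIso_of_mono_of_epi _)
  have hfac : lTMap (ModuleCat.ofHom φ) X = lTMap p X ≫ lTMap j X := HomologicalComplex.hom_ext _ _ fun i =>
    ModuleCat.hom_ext (LinearMap.rTensor_comp (X.X i) (LinearMap.range φ).subtype φ.rangeRestrict)
  rw [hfac]
  infer_instance

theorem lT_map_smul (f : A) (N : ModuleCat.{u} A) (X : DRing.Cx A) :
    (lT N).map (f • 𝟙 X) = lTMap (ModuleCat.ofHom (f • LinearMap.id : N →ₗ[A] N)) X := by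
  exact HomologicalComplex.hom_ext _ _ fun i => ModuleCat.hom_ext (TensorProduct.ext' fun n x =>
    (TensorProduct.smul_tmul f n x).symm)

theorem isDerivedComplete_obj₃ {I : Ideal A} (T : Triangle (Dual.D A)) (hT : T ∈ distinguishedTriangles)
    (h1 : DRing.IsDerivedComplete I T.obj₁) (h2 : DRing.IsDerivedComplete I T.obj₂) :
    DRing.IsDerivedComplete I T.obj₃ := fun f hf n => by
  haveI := h2 f hf n
  refine subsingleton_of_forall_eq 0 fun v => ?_
  have hT' := Triangle.shift_distinguished T hT n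
  haveI : Subsingleton (Dual.inD A (Localization.Away f) ⟶
      (((CategoryTheory.shiftFunctor (Triangle (Dual.D A)) n).obj T).obj₁)⟦(1 : ℤ)⟧) :=
    ⟨fun a b => by
      haveI := h1 f hf (n + 1)
      have e := (shiftFunctorAdd (Dual.D A) n (1 : ℤ)).app T.obj₁
      exact (cancel_mono e.inv).1 (Subsingleton.elim (α := Dual.inD A (Localization.Away f) ⟶ T.obj₁⟦n + 1⟧)
        (a ≫ e.inv) (b ≫ e.inv))⟩
  obtain ⟨w, hw⟩ := Triangle.coyoneda_exact₃ _ hT' v (Subsingleton.elim _ _)
  rw [hw, Subsingleton.elim (α := Dual.inD A (Localization.Away f) ⟶ T.obj₂⟦n⟧) w 0]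
  exact zero_comp

theorem isZero_Q_of_homology (X : DRing.Cx A) (h : ∀ i, IsZero (X.homology i)) :
    IsZero (DerivedCategory.Q.obj X) := by
  let z : X ⟶ HomologicalComplex.zero := 0
  haveI : QuasiIso z := (quasiIso_iff _).2 fun i => (quasiIsoAt_iff_isIso_homologyMap _ _).2
    (isIso_of_source_target_iso_zero _ (h i).isoZero
      ((HomologicalComplex.homologyFunctor _ _ i).map_isZero HomologicalComplex.isZero_zero).isoZero)
  exact (DerivedCategory.Q.map_isZero HomologicalComplex.isZero_zero).of_iso (asIso (DerivedCategory.Q.map z))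

theorem acyclic_of_complete (s : Finset A) :
    ∀ X : DRing.Cx A, DRing.TermwiseFlat X →
      DRing.IsDerivedComplete (Ideal.span (s : Set A)) (DerivedCategory.Q.obj X) →
      (∀ N : ModuleCat.{u} A, (∀ g ∈ s, ∀ n : N, g • n = 0) → ∀ i, IsZero (((lT N).obj X).homology i)) →
      IsZero (DerivedCategory.Q.obj X) := by
  classical
  induction s using Finset.induction_on with
  | empty =>
    intro X _ _ h
    refine isZero_Q_of_homology X fun i => ?_
    exact (h (ModuleCat.of A A) (by simp) i).of_iso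
      ((HomologicalComplex.homologyFunctor _ _ i).mapIso
        ((NatIso.mapHomologicalComplex (leftUnitorNatIso (ModuleCat.{u} A)) (ComplexShape.up ℤ)).app X ≪≫
          (Functor.mapHomologicalComplexIdIso _ _).app X).symm)
  | @insert f t _ ih =>
    intro X hX hc h
    have htle : Ideal.span (t : Set A) ≤ Ideal.span ((insert f t : Finset A) : Set A) :=
      Ideal.span_mono (by simp)
    let φ : X ⟶ X := f • 𝟙 X
    have hd := Groth.L02.PC.mappingCone_distinguished φ
    have hz : IsZero (DerivedCategory.Q.obj (mappingCone φ)) := by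
      refine ih _ (Groth.L10.KFlat.flat_mappingCone φ hX hX) ?_ fun N hN i => ?_
      · have hc' : DRing.IsDerivedComplete (Ideal.span (t : Set A)) (DerivedCategory.Q.obj X) :=
          fun g hg => hc g (htle hg)
        exact isDerivedComplete_obj₃ _ hd hc' hc'
      · haveI : QuasiIso ((lT N).map φ) := by
          rw [lT_map_smul]
          refine quasiIso_lTMap_smul hX f N (h _ fun g hg n => ?_) (h _ fun g hg n => ?_)
          · rcases Finset.mem_insert.1 hg with rfl | hg
            · exact Subtype.ext n.2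
            · exact Subtype.ext (hN g hg n.1)
          · obtain ⟨n, rfl⟩ := Submodule.Quotient.mk_surjective _ n
            rw [← Submodule.Quotient.mk_smul]
            rcases Finset.mem_insert.1 hg with rfl | hg
            · exact (Submodule.Quotient.mk_eq_zero _).2 ⟨n, rfl⟩
            · rw [hN g hg n]; rfl
        exact (Groth.L00.ConeTransfer.acyclic_cone ((lT N).map φ) i).of_iso
          ((HomologicalComplex.homologyFunctor _ _ i).mapIso
            (mappingCone.mapHomologicalComplexIso φ (tensorLeft N)))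
    haveI : IsIso (DerivedCategory.Q.map φ) := (Triangle.isZero₃_iff_isIso₁ _ hd).1 hz
    have hsm : DerivedCategory.Q.map φ = f • 𝟙 (DerivedCategory.Q.obj X) :=
      (Functor.map_smul _ _ _).trans (congrArg (f • ·) (CategoryTheory.Functor.map_id _ _))
    haveI : IsIso (f • 𝟙 (DerivedCategory.Q.obj X)) := hsm ▸ inferInstance
    rw [IsZero.iff_id_eq_zero]
    refine eq_zero_of_complete (hc f (Ideal.subset_span (by simp))) (fun b => ⟨inv (f • 𝟙 (DerivedCategory.Q.obj X)) ≫ b, ?_⟩) _
    have h2 : f • (inv (f • 𝟙 (DerivedCategory.Q.obj X))) = 𝟙 _ := by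
      rw [← Category.id_comp (inv (f • 𝟙 (DerivedCategory.Q.obj X))), ← Linear.smul_comp]
      exact IsIso.hom_inv_id _
    change f • (inv (f • 𝟙 (DerivedCategory.Q.obj X)) ≫ b) = b
    rw [← Linear.smul_comp, h2, Category.id_comp]

end Groth.L04.RGamma
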