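import Groth.Prelude.Def_DRing3
import Groth.Agent.L04.InjNoeth
import Groth.Agent.L28.HomElt

/-!
Torsion parts of complexes of injective modules over a Noetherian ring: if the cohomology is `I`-power
torsion, the inclusion `Γ_I C ⟶ C` is a quasi-isomorphism.
-/

set_option autoImplicit false
universe u

open CategoryTheory CategoryTheory.Limits DRing

namespace Groth.L04.RGamma

variable {A : Type u} [CommRing A]

theorem torsionSub_eq_powTorsion (I : Ideal A) (M : Type u) [AddCommGroup M] [Module A M] :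
    torsionSub I M = Groth.L04.powTorsion I M := by
  ext x
  exact Groth.L04.mem_powTorsion.symm

theorem torsionSub_bot (M : Type u) [AddCommGroup M] [Module A M] : torsionSub (⊥ : Ideal A) M = ⊤ :=
  eq_top_iff.2 fun x _ => ⟨1, fun a ha => by
    rw [pow_one, Ideal.mem_bot] at ha
    rw [ha, zero_smul]⟩

theorem torsionSub_mono {I J : Ideal A} (h : I ≤ J) (M : Type u) [AddCommGroup M] [Module A M] :
    torsionSub J M ≤ torsionSub I M := fun _ ⟨n, hn⟩ =>
  ⟨n, fun a ha => hn a (Ideal.pow_right_mono h n ha)⟩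

theorem mem_torsionSub_sup {I J : Ideal A} {M : Type u} [AddCommGroup M] [Module A M] {x : M} :
    x ∈ torsionSub (I ⊔ J) M ↔ x ∈ torsionSub I M ∧ x ∈ torsionSub J M := by
  refine ⟨fun h => ⟨torsionSub_mono le_sup_left M h, torsionSub_mono le_sup_right M h⟩, ?_⟩
  rintro ⟨⟨m, hm⟩, ⟨n, hn⟩⟩
  refine ⟨m + n, fun a ha => ?_⟩
  have : a ∈ I ^ m ⊔ J ^ n := Ideal.sup_pow_add_le_pow_sup_pow ha
  obtain ⟨b, hb, c, hc, rfl⟩ := Submodule.mem_sup.1 this
  rw [add_smul, hm b hb, hn c hc, add_zero]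

theorem mem_torsionSub_span_singleton {f : A} {M : Type u} [AddCommGroup M] [Module A M] {x : M} :
    x ∈ torsionSub (Ideal.span {f}) M ↔ ∃ k : ℕ, f ^ k • x = 0 := by
  refine exists_congr fun k => ?_
  simp only [Ideal.span_singleton_pow, Ideal.mem_span_singleton']
  exact ⟨fun h => h _ ⟨1, one_mul _⟩, fun h a ⟨c, hc⟩ => by rw [← hc, mul_smul, h, smul_zero]⟩

theorem isPowerTorsion_torsionSub (I : Ideal A) (M : Type u) [AddCommGroup M] [Module A M] :
    LocCoh.IsPowerTorsion I (torsionSub I M) := fun ⟨_, n, hn⟩ => ⟨n, fun a ha => Subtype.ext (hn a ha)⟩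

/-- The torsion subcomplex. -/
noncomputable abbrev gammaCx (I : Ideal A) : DRing.Cx A ⥤ DRing.Cx A :=
  (gammaI I).mapHomologicalComplex (ComplexShape.up ℤ)

/-- The inclusion of the torsion subcomplex. -/
noncomputable def incl (I : Ideal A) (C : DRing.Cx A) : (gammaCx I).obj C ⟶ C where
  f n := (gammaIι I).app (C.X n)
  comm' i j _ := ((gammaIι I).naturality (C.d i j)).symm

theorem incl_injective (I : Ideal A) (C : DRing.Cx A) (n : ℤ) : Function.Injective ((incl I C).f n) :=
  fun _ _ h => Subtype.ext h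

theorem incl_naturality (I : Ideal A) {C D : DRing.Cx A} (f : C ⟶ D) :
    (gammaCx I).map f ≫ incl I D = incl I C ≫ f := by
  ext n : 1
  exact (gammaIι I).naturality (f.f n)

variable [IsNoetherianRing A]

theorem injective_gammaI_obj (I : Ideal A) (E : ModuleCat.{u} A) [Injective E] :
    Injective ((gammaI I).obj E) := by
  haveI : Module.Injective A E := Module.injective_module_of_injective_object A E
  haveI : Module.Injective A (torsionSub I E) := by
    rw [torsionSub_eq_powTorsion]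
    exact Groth.L04.injective_powTorsion ‹_› I
  exact Module.injective_object_of_injective_module A (torsionSub I E)

/-- Powers of an element divide up to a bounded power in injective modules. -/
theorem exists_div (f : A) : ∃ N : ℕ, ∀ (E : Type u) [AddCommGroup E] [Module A E] [Module.Injective A E]
    (k : ℕ) (v : E), ∃ e : E, f ^ (N + k) • e = f ^ N • v := by
  let g : ℕ →o Ideal A := ⟨fun n => LinearMap.ker (LinearMap.mulLeft A (f ^ n)), fun a b hab x hx => by
    obtain ⟨c, rfl⟩ := Nat.exists_eq_add_of_le hab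
    simp only [LinearMap.mem_ker, LinearMap.mulLeft_apply] at hx ⊢
    rw [pow_add, mul_comm (f ^ a), mul_assoc, hx, mul_zero]⟩
  obtain ⟨N, hN⟩ := monotone_stabilizes_iff_noetherian.2 (inferInstanceAs (IsNoetherian A A)) g
  refine ⟨N, fun E _ _ _ k v => ?_⟩
  let φ : A →ₗ[A] A := LinearMap.mulLeft A (f ^ (N + k))
  let ψ : A →ₗ[A] E := LinearMap.toSpanSingleton A E (f ^ N • v)
  have hle : LinearMap.ker φ ≤ LinearMap.ker ψ := fun x hx => by
    have hx' : x ∈ g N := by rw [hN (N + k) le_self_add]; exact hx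
    show x • f ^ N • v = 0
    rw [← mul_smul, mul_comm]
    exact (congrArg (· • v) (show f ^ N * x = 0 from hx')).trans (zero_smul _ _)
  obtain ⟨h, hh⟩ := Module.Injective.out ((LinearMap.ker φ).liftQ φ le_rfl)
    (LinearMap.ker_eq_bot.1 (Submodule.ker_liftQ_eq_bot _ _ _ le_rfl)) ((LinearMap.ker φ).liftQ ψ hle)
  refine ⟨h 1, ?_⟩
  have := hh (Submodule.Quotient.mk 1)
  rw [Submodule.liftQ_apply, Submodule.liftQ_apply] at this
  rw [← map_smul, smul_eq_mul]
  simpa [φ, ψ, LinearMap.toSpanSingleton_apply] using this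

/-- The two halves of `Γ_I C ⟶ C` being a quasi-isomorphism. -/
def Good (I : Ideal A) (C : DRing.Cx A) : Prop :=
  (∀ (i j k : ℤ), i + 1 = j → j + 1 = k → ∀ z : C.X j, C.d j k z = 0 →
    ∃ e : C.X i, z - C.d i j e ∈ torsionSub I (C.X j)) ∧
  (∀ (i j : ℤ), i + 1 = j → ∀ w : C.X i, C.d i j w ∈ torsionSub I (C.X j) →
    ∃ w' ∈ torsionSub I (C.X i), C.d i j w' = C.d i j w)

theorem good_step {I : Ideal A} {C : DRing.Cx A} (hinj : ∀ n, Injective (C.X n)) (h : Good I C) (f : A)
    (hf : ∀ (i j k : ℤ), i + 1 = j → j + 1 = k → ∀ z : C.X j, C.d j k z = 0 →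
      ∃ (m : ℕ) (v : C.X i), C.d i j v = f ^ m • z) :
    Good (I ⊔ Ideal.span {f}) C := by
  obtain ⟨N, hN⟩ := exists_div f
  have hmem : ∀ (n : ℤ) (x : torsionSub I (C.X n)) (k : ℕ),
      f ^ k • (x : C.X n) = 0 → (x : C.X n) ∈ torsionSub (I ⊔ Ideal.span {f}) (C.X n) := fun n x k hk =>
    mem_torsionSub_sup.2 ⟨x.2, mem_torsionSub_span_singleton.2 ⟨k, hk⟩⟩
  have hdiv : ∀ (n : ℤ) (k : ℕ) (v : torsionSub I (C.X n)), ∃ e : torsionSub I (C.X n),
      f ^ (N + k) • e = f ^ N • v := fun n k v => by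
    haveI := hinj n
    haveI : Module.Injective A (torsionSub I (C.X n)) :=
      Module.injective_module_of_injective_object A ((gammaI I).obj (C.X n)) (inj := injective_gammaI_obj I _)
    exact hN _ k v
  have hd : ∀ (i j : ℤ) (x : C.X i), x ∈ torsionSub I (C.X i) → C.d i j x ∈ torsionSub I (C.X j) :=
    fun i j x hx => map_mem_torsionSub I (C.d i j).hom hx
  refine ⟨fun i j k hij hjk z hz => ?_, fun i j hij w hw => ?_⟩
  · obtain ⟨e₀, he₀⟩ := h.1 i j k hij hjk z hz
    have hdd : ∀ x : C.X i, C.d j k (C.d i j x) = 0 := fun x => by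
      rw [← ConcreteCategory.comp_apply, C.d_comp_d]; rfl
    obtain ⟨m, v, hv⟩ := hf i j k hij hjk (z - C.d i j e₀) (by rw [map_sub, hz, hdd, sub_zero])
    obtain ⟨v', hv', hvv'⟩ := h.2 i j hij v (hv ▸ Submodule.smul_mem _ _ he₀)
    obtain ⟨e, he⟩ := hdiv i m ⟨v', hv'⟩
    refine ⟨e₀ + e, ?_⟩
    rw [map_add, ← sub_sub]
    refine hmem j ⟨_, Submodule.sub_mem _ he₀ (hd i j _ e.2)⟩ (N + m) ?_
    show f ^ (N + m) • (z - C.d i j e₀ - C.d i j (e : C.X i)) = 0
    have he' : f ^ (N + m) • (e : C.X i) = f ^ N • v' := congrArg Subtype.val he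
    rw [smul_sub, ← map_smul, he', map_smul, hvv', hv, pow_add, mul_smul, sub_self]
  · obtain ⟨hwI, hwf⟩ := mem_torsionSub_sup.1 hw
    obtain ⟨w₁, hw₁, hw₁eq⟩ := h.2 i j hij w hwI
    obtain ⟨m, hm⟩ := mem_torsionSub_span_singleton.1 hwf
    obtain ⟨m', v, hv⟩ := hf (i - 1) i j (by omega) hij (f ^ m • w₁) (by rw [map_smul, hw₁eq, hm])
    obtain ⟨v', hv', hvv'⟩ := h.2 (i - 1) i (by omega) v
      (hv ▸ Submodule.smul_mem _ _ (Submodule.smul_mem _ _ hw₁))
    obtain ⟨e, he⟩ := hdiv (i - 1) (m + m') ⟨v', hv'⟩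
    have hdd : ∀ x : C.X (i - 1), C.d i j (C.d (i - 1) i x) = 0 := fun x => by
      rw [← ConcreteCategory.comp_apply, C.d_comp_d]; rfl
    refine ⟨w₁ - C.d (i - 1) i (e : C.X (i - 1)), hmem i ⟨_, Submodule.sub_mem _ hw₁ (hd _ _ _ e.2)⟩
      (N + (m + m')) ?_, by rw [map_sub, hdd, sub_zero, hw₁eq]⟩
    show f ^ (N + (m + m')) • (w₁ - C.d (i - 1) i (e : C.X (i - 1))) = 0
    have he' : f ^ (N + (m + m')) • (e : C.X (i - 1)) = f ^ N • v' := congrArg Subtype.val he
    rw [smul_sub, ← map_smul, he', map_smul, hvv', hv, ← mul_smul, ← mul_smul,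
      ← pow_add, ← pow_add, show N + (m + m') = N + (m' + m) from by omega]
    rw [show N + m' + m = N + (m' + m) from by omega, sub_self]

theorem good {I : Ideal A} (C : DRing.Cx A) (hinj : ∀ n, Injective (C.X n))
    (hC : ∀ f ∈ I, ∀ (i j k : ℤ), i + 1 = j → j + 1 = k → ∀ z : C.X j, C.d j k z = 0 →
      ∃ (m : ℕ) (v : C.X i), C.d i j v = f ^ m • z) : Good I C := by
  classical
  obtain ⟨s, rfl⟩ := IsNoetherian.noetherian I
  suffices ∀ t : Finset A, t ⊆ s → Good (Ideal.span (t : Set A)) C from this s (Finset.Subset.refl s)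
  intro t
  induction t using Finset.induction_on with
  | empty =>
    intro _
    rw [Finset.coe_empty, Ideal.span_empty]
    exact ⟨fun i j k _ _ z _ => ⟨0, by rw [torsionSub_bot]; trivial⟩,
      fun i j _ w _ => ⟨w, by rw [torsionSub_bot]; trivial, rfl⟩⟩
  | insert a t _ ih =>
    intro ht
    rw [Finset.coe_insert, Ideal.span_insert, sup_comm]
    exact good_step hinj (ih ((Finset.subset_insert _ _).trans ht)) a
      (hC a (Submodule.subset_span (ht (Finset.mem_insert_self _ _))))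

theorem quasiIso_incl_of_torsion (I : Ideal A) (C : DRing.Cx A) (hinj : ∀ n, Injective (C.X n))
    (hC : ∀ n, LocCoh.IsPowerTorsion I (C.homology n)) : QuasiIso (incl I C) := by
  have hg := good (I := I) C hinj fun f hf i j k hij hjk z hz => by
    obtain ⟨y, rfl⟩ := Groth.L28.HomElt.exists_cycle (K := C) (by simp; omega : (ComplexShape.up ℤ).next j = k) z hz
    obtain ⟨m, hm⟩ := hC j (C.homologyπ j y)
    have h0 := hm (f ^ m) (Ideal.pow_mem_pow hf m)
    rw [← map_smul, Groth.L28.HomElt.π_eq_zero_iff (by simp; omega : (ComplexShape.up ℤ).prev j = i)] at h0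
    obtain ⟨v, hv⟩ := h0
    exact ⟨m, v, hv.trans (map_smul _ _ _)⟩
  refine Groth.L28.HomElt.quasiIso_of_bijective _ fun j => ⟨?_, ?_⟩
  · rw [Groth.L28.HomElt.injective_homologyMap_iff _ (i := j - 1) (k := j + 1) (by simp) (by simp)]
    intro x w hx hxw
    obtain ⟨w', hw', he⟩ := hg.2 (j - 1) j (by omega) w (hxw ▸ x.2)
    exact ⟨⟨w', hw'⟩, Subtype.ext (he.trans hxw.symm)⟩
  · rw [Groth.L28.HomElt.surjective_homologyMap_iff _ (i := j - 1) (k := j + 1) (by simp) (by simp)]
    intro y hy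
    obtain ⟨e, he⟩ := hg.1 (j - 1) j (j + 1) (by omega) rfl y hy
    have hdd : C.d j (j + 1) (C.d (j - 1) j e) = 0 := by
      rw [← ConcreteCategory.comp_apply, C.d_comp_d]; rfl
    refine ⟨⟨_, he⟩, e, Subtype.ext ?_, sub_add_cancel y _⟩
    show C.d j (j + 1) (y - C.d (j - 1) j e) = 0
    rw [map_sub, hy, hdd, sub_zero]

omit [IsNoetherianRing A] in
theorem isPowerTorsion_homology_gammaCx (I : Ideal A) (C : DRing.Cx A) (n : ℤ) :
    LocCoh.IsPowerTorsion I (((gammaCx I).obj C).homology n) := fun c => by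
  obtain ⟨z, rfl⟩ := Groth.L28.HomElt.homologyπ_surjective _ _ c
  obtain ⟨m, hm⟩ := isPowerTorsion_torsionSub I (C.X n) (((gammaCx I).obj C).iCycles n z)
  refine ⟨m, fun a ha => ?_⟩
  rw [← map_smul, show a • z = 0 from Groth.L28.HomElt.iCycles_injective _ _ (by
    rw [map_smul, map_zero]; exact hm a ha), map_zero]

theorem injective_gammaCx (I : Ideal A) (C : DRing.Cx A) (hinj : ∀ n, Injective (C.X n)) (n : ℤ) :
    Injective (((gammaCx I).obj C).X n) :=
  haveI := hinj n
  injective_gammaI_obj I (C.X n)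

theorem exactAt_gammaCx (I : Ideal A) (C : DRing.Cx A) (hinj : ∀ n, Injective (C.X n))
    (hC : ∀ n, C.ExactAt n) (n : ℤ) : ((gammaCx I).obj C).ExactAt n := by
  haveI := quasiIso_incl_of_torsion I C hinj fun n x => ⟨0, fun a _ => by
    haveI := ModuleCat.subsingleton_of_isZero ((hC n).isZero_homology)
    exact Subsingleton.elim _ _⟩
  rw [HomologicalComplex.exactAt_iff_isZero_homology]
  exact ((hC n).isZero_homology).of_iso (asIso (HomologicalComplex.homologyMap (incl I C) n))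

end Groth.L04.RGamma
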